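import Groth.Agent.QDMSlice.Grpd
import Groth.Agent.AlgStLib.DiagProps
import Groth.Agent.AlgStLib.Charts
import Groth.Agent.AlgStLib.PointsBasic
import Groth.Agent.AlgStLib.Morphisms
import Groth.Agent.AlgStLib.ResGerbeIso
import Groth.Agent.AlgStLib.AlgClosedLift
import Groth.Agent.DenseLiftQC.Stack
import Groth.Agent.LqfRep.Main

/-!
# The scheme of arrows of a chart of a stack with separated quasi-finite diagonal
-/

set_option autoImplicit false
set_option backward.isDefEq.respectTransparency false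
set_option backward.isDefEq.respectTransparency.types false
set_option linter.style.haveILetI false
universe u

noncomputable section

namespace Groth.Agent.QDMSlice

open CategoryTheory CategoryTheory.Limits AlgebraicGeometry Opposite Groth.Agent.FibCatRep
  Groth.Agent.FibCat2Misc Groth.Agent.AlgSpLib Groth.Agent.StkBasic Groth.Agent.AlgStLib
open _root_.AlgSp _root_.AlgSt

variable {S : Scheme.{u}} {𝒳 : AlgSt.Cat S} {U : Over S} (w : FibCat.overCat U ⥤ᵇ 𝒳)

/-- an equivalence with the scheme of self pairs gives a universal isomorphism -/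
theorem exists_univ_of_equiv (hX : FibCat.IsFibGrpd 𝒳.p) {R : Over S} (E : FibCat.overCat R ⥤ᵇ FibCat.fp w w)
    (hE : FibCat.IsEquivOver E) (t s : R ⟶ U)
    (i₁ : BasedFunctor.comp E (FibCat.fpFst w w) ≅ AlgSt.overMap t)
    (i₂ : BasedFunctor.comp E (FibCat.fpSnd w w) ≅ AlgSt.overMap s) :
    ∃ D : Univ w, ∃ h : D.R = R, D.t = eqToHom h ≫ t ∧ D.s = eqToHom h ≫ s := by
  let top : (FibCat.overCat R).obj := Over.mk (𝟙 R)
  let o := E.obj top
  let a : o.obj.fst ≅ Over.mk t :=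
    ((BasedNatTrans.forgetful _ _).mapIso i₁).app top ≪≫ Over.isoMk (Iso.refl R)
      (show 𝟙 R ≫ t = (𝟙 R) ≫ t from rfl)
  let b : o.obj.snd ≅ Over.mk s :=
    ((BasedNatTrans.forgetful _ _).mapIso i₂).app top ≪≫ Over.isoMk (Iso.refl R)
      (show 𝟙 R ≫ s = (𝟙 R) ≫ s from rfl)
  have hw : o.obj.fst.left = R := E.w_obj top
  have hw' : o.obj.snd.left = R := (fp_obj_eq o).trans hw
  have ha : a.hom.left = eqToHom hw := by
    refine (congrArg (· ≫ 𝟙 R) (map_app i₁.hom top)).trans ?_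
    exact Category.comp_id _
  have hb : b.hom.left = eqToHom hw' := by
    refine (congrArg (· ≫ 𝟙 R) (map_app i₂.hom top)).trans ?_
    exact Category.comp_id _
  have hai : a.inv.left = eqToHom hw.symm := by
    rw [← cancel_mono a.hom.left, ← Over.comp_left, Iso.inv_hom_id, ha, eqToHom_trans]; rfl
  obtain ⟨q, hq⟩ := map_iso_hom o
  let θ : Vert w t s := ⟨w.map a.inv ≫ o.obj.iso.hom ≫ w.map b.hom, by
    rw [Functor.map_comp, Functor.map_comp, map_map, map_map, hq]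
    show (_ ≫ a.inv.left ≫ _) ≫ _ ≫ _ ≫ b.hom.left ≫ _ = _
    rw [hai, hb]
    simp⟩
  haveI := θ.isIso hX
  let o' : (FibCat.fp w w).obj := ⟨⟨Over.mk t, Over.mk s, asIso θ.hom⟩, fpProp_of_map _ _ _ _ θ.map⟩
  let m : o ≅ o' := ObjectProperty.isoMk _ (CategoricalPullback.mkIso a b (by
    show w.map a.hom ≫ w.map a.inv ≫ o.obj.iso.hom ≫ w.map b.hom = o.obj.iso.hom ≫ w.map b.hom
    rw [← Category.assoc, ← w.toFunctor.map_comp, Iso.hom_inv_id, w.toFunctor.map_id, Category.id_comp]))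
  obtain ⟨hEe, -⟩ := isEquivOver_data hE
  haveI := hEe
  have ht : IsTerminal o' := IsTerminal.ofIso (IsTerminal.isTerminalObj E.toFunctor top Over.mkIdTerminal) m
  refine ⟨⟨R, t, s, θ, fun {T} a b η => ?_⟩, rfl, by simp, by simp⟩
  haveI := η.isIso hX
  let x : (FibCat.fp w w).obj := ⟨⟨Over.mk a, Over.mk b, asIso η.hom⟩, fpProp_of_map _ _ _ _ η.map⟩
  let n := ht.from x
  let r : T ⟶ R := n.hom.fst.left
  have hsnd : n.hom.snd.left = r := by
    refine (map_snd n).trans ?_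
    show eqToHom _ ≫ r ≫ eqToHom _ = r
    simp
  refine ⟨r, ⟨Over.w n.hom.fst, by rw [← hsnd]; exact Over.w n.hom.snd, ?_⟩, ?_⟩
  · have e := n.hom.w
    have k : (Over.homMk r (by rw [← hsnd]; exact Over.w n.hom.snd) : Over.mk b ⟶ Over.mk s) = n.hom.snd :=
      Over.OverMorphism.ext hsnd.symm
    show η.hom ≫ w.map _ = w.map _ ≫ θ.hom
    rw [k]
    exact e.symm
  · rintro r' ⟨h₁, h₂, h₃⟩
    let n' : x ⟶ o' := ObjectProperty.homMk ⟨Over.homMk r' h₁, Over.homMk r' h₂, h₃.symm⟩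
    exact congrArg (fun k : x ⟶ o' => k.hom.fst.left) (ht.hom_ext n' n)

variable (U) in
/-- the self product of the chart over the base -/
abbrev prodU : Over S := Over.mk (pullback.fst U.hom U.hom ≫ U.hom)

variable (U) in
/-- first projection -/
abbrev pr₁ : prodU U ⟶ U := Over.homMk (pullback.fst U.hom U.hom) rfl

variable (U) in
/-- second projection -/
abbrev pr₂ : prodU U ⟶ U := Over.homMk (pullback.snd U.hom U.hom) pullback.condition.symm

/-- all functors to the base agree -/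
def selfIso (y y' : FibCat.overCat U ⥤ᵇ 𝒳) :
    BasedFunctor.comp (AlgSt.overMap (pr₁ U)) (BasedFunctor.comp y (FibCat.toSelf 𝒳)) ≅
      BasedFunctor.comp (AlgSt.overMap (pr₂ U)) (BasedFunctor.comp y' (FibCat.toSelf 𝒳)) :=
  BasedNatIso.mkNatIso
    (NatIso.ofComponents
      (fun z => eqToIso ((y.w_obj ((AlgSt.overMap (pr₁ U)).obj z)).trans (y'.w_obj ((AlgSt.overMap (pr₂ U)).obj z)).symm))
      fun {z z'} g => by
        show 𝒳.p.map (y.map ((AlgSt.overMap (pr₁ U)).map g)) ≫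
            eqToHom ((y.w_obj ((AlgSt.overMap (pr₁ U)).obj z')).trans (y'.w_obj ((AlgSt.overMap (pr₂ U)).obj z')).symm) =
          eqToHom ((y.w_obj ((AlgSt.overMap (pr₁ U)).obj z)).trans (y'.w_obj ((AlgSt.overMap (pr₂ U)).obj z)).symm) ≫
            𝒳.p.map (y'.map ((AlgSt.overMap (pr₂ U)).map g))
        rw [map_map y, map_map y']
        show (eqToHom _ ≫ g.left ≫ eqToHom _) ≫ eqToHom _ = eqToHom _ ≫ eqToHom _ ≫ g.left ≫ eqToHom _
        simp)
    fun z => IsHomLift.of_fac' _ _ _ (y.w_obj _) (y'.w_obj _) (by simp; rfl)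

/-- pairs of points -/
abbrev pairFun : FibCat.overCat (prodU U) ⥤ᵇ
    FibCat.fp (BasedFunctor.comp w (FibCat.toSelf 𝒳)) (BasedFunctor.comp w (FibCat.toSelf 𝒳)) :=
  FibCat.fpLift (AlgSt.overMap (pr₁ U)) (AlgSt.overMap (pr₂ U)) (selfIso w w)

theorem isEquivOver_pairFun : FibCat.IsEquivOver (pairFun w) := by
  haveI : (pairFun w).toFunctor.Faithful := ⟨fun {z z'} g g' h => Over.OverMorphism.ext
    (congrArg (fun k : (pairFun w).obj z ⟶ (pairFun w).obj z' => k.hom.fst.left) h)⟩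
  haveI : (pairFun w).toFunctor.Full := ⟨fun {z z'} n => by
    have hsnd : n.hom.snd.left = n.hom.fst.left := by
      refine (map_snd n).trans ?_
      show eqToHom _ ≫ n.hom.fst.left ≫ eqToHom _ = n.hom.fst.left
      simp
    have h₁ : n.hom.fst.left ≫ z'.hom ≫ pr₁ U = z.hom ≫ pr₁ U := Over.w n.hom.fst
    have h₂ : n.hom.snd.left ≫ z'.hom ≫ pr₂ U = z.hom ≫ pr₂ U := Over.w n.hom.snd
    rw [hsnd] at h₂
    refine ⟨Over.homMk n.hom.fst.left (Over.OverMorphism.ext (pullback.hom_ext ?_ ?_)), ?_⟩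
    · exact (Category.assoc _ _ _).trans (congrArg CommaMorphism.left h₁)
    · exact (Category.assoc _ _ _).trans (congrArg CommaMorphism.left h₂)
    · exact ObjectProperty.hom_ext _ (CategoricalPullback.hom_ext (Over.OverMorphism.ext rfl)
        (Over.OverMorphism.ext hsnd.symm))⟩
  refine isEquivOver_of_fullyFaithful _ fun η => ?_
  have he : η.obj.snd.left = η.obj.fst.left := fp_obj_eq η
  let T : Over S := η.obj.fst.left
  let a : T ⟶ U := η.obj.fst.hom
  let b : T ⟶ U := eqToHom he.symm ≫ η.obj.snd.hom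
  let z : Over (prodU U) := Over.mk (Over.homMk (pullback.lift a.left b.left ((Over.w a).trans (Over.w b).symm))
    (by show _ ≫ pullback.fst _ _ ≫ U.hom = T.hom; rw [pullback.lift_fst_assoc]; exact Over.w a) : T ⟶ prodU U)
  have e₁ : z.hom ≫ pr₁ U = a := Over.OverMorphism.ext (pullback.lift_fst _ _ _)
  have e₂ : z.hom ≫ pr₂ U = b := Over.OverMorphism.ext (pullback.lift_snd _ _ _)
  let i₁ : ((pairFun w).obj z).obj.fst ≅ η.obj.fst := Over.isoMk (Iso.refl T) ((Category.id_comp _).trans e₁.symm)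
  let i₂ : ((pairFun w).obj z).obj.snd ≅ η.obj.snd := Over.isoMk (eqToIso he.symm) e₂.symm
  obtain ⟨q, hq⟩ := map_iso_hom η
  obtain ⟨q', hq'⟩ := map_iso_hom ((pairFun w).obj z)
  refine ⟨z, ObjectProperty.isoMk _ (CategoricalPullback.mkIso i₁ i₂ ?_), rfl, ?_⟩
  · show 𝒳.p.map (w.map i₁.hom) ≫ η.obj.iso.hom = ((pairFun w).obj z).obj.iso.hom ≫ 𝒳.p.map (w.map i₂.hom)
    rw [show η.obj.iso.hom = eqToHom q from hq,
      show ((pairFun w).obj z).obj.iso.hom = eqToHom q' from hq', map_map, map_map]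
    show (_ ≫ 𝟙 T ≫ _) ≫ _ = _ ≫ _ ≫ eqToHom he.symm ≫ _
    simp
  · exact (eqToHom_refl _ _).symm

/-- base change of an equivalence -/
theorem isEquivOver_fpSnd_of_equiv {𝒜 ℬ 𝒞 : AlgSt.Cat S} {y : 𝒜 ⥤ᵇ ℬ} (hy : FibCat.IsEquivOver y) (C : 𝒞 ⥤ᵇ ℬ) :
    FibCat.IsEquivOver (FibCat.fpSnd y C) := by
  haveI : (BasedFunctor.id ℬ).toFunctor.Full := inferInstanceAs (𝟭 ℬ.obj).Full
  haveI : (BasedFunctor.id ℬ).toFunctor.Faithful := inferInstanceAs (𝟭 ℬ.obj).Faithful
  let M := fpMap (F := BasedFunctor.id ℬ) (G := C) y C y (BasedFunctor.id 𝒞) (BasedFunctor.id ℬ) (Iso.refl _)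
    (Iso.refl _)
  have h := isEquivOver_comp (isEquivOver_fpMap y C y (BasedFunctor.id 𝒞) (BasedFunctor.id ℬ) (Iso.refl _) (Iso.refl _)
    hy isEquivOver_id) (isEquivOver_fpSnd_id C)
  refine ResIso.isEquivOver_of_iso (G := BasedFunctor.comp M (FibCat.fpSnd (BasedFunctor.id ℬ) C)) ?_ h
  exact BasedNatIso.mkNatIso (NatIso.ofComponents (fun o => Iso.refl o.obj.snd)
    (fun {o o'} m => (Category.comp_id m.hom.snd).trans (Category.id_comp m.hom.snd).symm))
    (fun o => IsHomLift.of_fac' _ _ _ (fp_obj_eq o) (fp_obj_eq o)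
      (show 𝒞.p.map (𝟙 o.obj.snd) = _ by rw [CategoryTheory.Functor.map_id]; simp; rfl))

/-- the scheme of arrows -/
theorem exists_equiv_chart (hX : FibCat.IsFibGrpd 𝒳.p)
    (hΔ : RepByAlgSpWith (AlgSp.IsSeparatedMor (S := S)) (FibCat.diag (FibCat.toSelf 𝒳)))
    (hqf : AlgSt.IsQuasiDMOver 𝒳) :
    ∃ (R : Over S) (pr : R ⟶ prodU U) (E : FibCat.overCat R ⥤ᵇ FibCat.fp w w), FibCat.IsEquivOver E ∧
      LocallyQuasiFinite pr.left ∧ Nonempty (BasedFunctor.comp E (FibCat.fpFst w w) ≅ AlgSt.overMap (pr ≫ pr₁ U)) ∧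
      Nonempty (BasedFunctor.comp E (FibCat.fpSnd w w) ≅ AlgSt.overMap (pr ≫ pr₂ U)) := by
  haveI := respectsIso_separated (S := S)
  haveI := respectsIso_onSp (cls_lqf (S := S)).bc
  haveI := respectsIso_and (AlgSp.IsSeparatedMor (S := S))
    (onSp (LocP (S := S) (@LocallyQuasiFinite ⊓ @LocallyOfFiniteType)))
  let t := FibCat.toSelf 𝒳
  let ε : BasedFunctor.comp (FibCat.fpFst w w) (BasedFunctor.comp w t) ≅
      BasedFunctor.comp (FibCat.fpSnd w w) (BasedFunctor.comp w t) := (post _ t).mapIso (FibCat.fpIso w w)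
  let C := FibCat.fpLift (FibCat.fpFst w w) (FibCat.fpSnd w w) ε
  have hC : RepByAlgSpWith (AlgSp.IsSeparatedMor ⊓
      onSp (LocP (S := S) (@LocallyQuasiFinite ⊓ @LocallyOfFiniteType))) C :=
    (repWith_iff_of_equiv _ (FibCat.fpFst (cmpMap w w t) (FibCat.diag t)) C
      (cmpDiag ε (fun _ => rfl)) (BasedFunctor.id _) (isEquivOver_cmpDiag ε (fun _ => rfl)) isEquivOver_id
      (Iso.refl _)).1 (repWith_fpFst _ _ _ (repWith_and hΔ (repWith_onSp_iff.2 hqf)))
  let y := BasedFunctor.comp (AlgSt.toOverCat (prodU U)) (pairFun w)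
  have hy : FibCat.IsEquivOver y := isEquivOver_comp (isEquivOver_toOverCat _) (isEquivOver_pairFun w)
  obtain ⟨F, e, he, hs, hA, hsep, hl⟩ := (AlgStLib.repWith_iff _ C).1 hC (prodU U) y
  let π : (⟨F, hs⟩ : Sp S) ⟶ (yon S).obj (prodU U) := ObjectProperty.homMk (prjMap e)
  obtain ⟨R, ⟨φ⟩⟩ := LqfRep.exists_iso_yon_of_lqf_separated hA π (hl hA (IsAlgSpace.yon_obj _)) hsep
  let Φ : AlgSt.ofSp (⟨F, hs⟩ : Sp S) ⥤ᵇ FibCat.overCat (prodU U) :=
    BasedFunctor.comp (BasedFunctor.comp e (FibCat.fpFst y C)) (AlgSt.toOverCat (prodU U))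
  obtain ⟨pr, hpr, ⟨jpr⟩⟩ := exists_map_of_chart φ.inv Φ
  haveI : IsIso φ.inv.hom := inferInstanceAs (IsIso ((sheafToPresheaf (J S) (Type (u + 1))).map φ.inv))
  let ch := BasedFunctor.comp (ofOverCat R) (Stk.ofPshMap φ.inv.hom)
  let E := BasedFunctor.comp (BasedFunctor.comp ch e) (FibCat.fpSnd y C)
  have hsnd : FibCat.IsEquivOver (FibCat.fpSnd y C) := isEquivOver_fpSnd_of_equiv hy C
  have hE : FibCat.IsEquivOver E :=
    isEquivOver_comp (isEquivOver_comp (isEquivOver_comp (isEquivOver_ofOverCat R)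
      (AlgStLib.isEquivOver_ofPshMap φ.inv.hom)) he) hsnd
  have hqfpr : LocallyQuasiFinite pr.left := by
    have h1 : LocP (@LocallyQuasiFinite ⊓ @LocallyOfFiniteType) (φ.inv ≫ π) := by
      haveI := DenseLiftQC.respectsIso_locP (S := S) (@LocallyQuasiFinite ⊓ @LocallyOfFiniteType)
      exact (MorphismProperty.cancel_left_of_respectsIso _ φ.inv π).2 (hl hA (IsAlgSpace.yon_obj _))
    have h2 : φ.inv ≫ π = (yon S).map pr := by
      rw [hpr]
      congr 1
    rw [h2] at h1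
    exact ((locP_yon_iff etST_lqf pr).1 h1).1
  let j₀ : BasedFunctor.comp E C ≅ BasedFunctor.comp (AlgSt.overMap pr) (pairFun w) :=
    (Stk.restr (BasedFunctor.comp ch e) _).mapIso (FibCat.fpIso y C).symm ≪≫ (post _ (pairFun w)).mapIso jpr
  exact ⟨R, pr, E, hE, hqfpr,
    ⟨((post _ (FibCat.fpFst (BasedFunctor.comp w t) (BasedFunctor.comp w t))).mapIso j₀ :) ≪≫ overMapComp pr (pr₁ U)⟩,
    ⟨((post _ (FibCat.fpSnd (BasedFunctor.comp w t) (BasedFunctor.comp w t))).mapIso j₀ :) ≪≫ overMapComp pr (pr₂ U)⟩⟩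

end Groth.Agent.QDMSlice
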