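import Groth.Agent.QDMSlice.Main
import Groth.Agent.AlgStLib.GerbeProps
import Groth.Agent.AlgStLib.LiftFamily
import Groth.Agent.AlgSpLib.FpqcProps
import Groth.Agent.AlgSpLib.ProperCrit
import Groth.Prelude.Def_W4stkstmodspWNA

/-!
# Stacks with a finite flat surjective chart from an affine scheme
-/

set_option autoImplicit false
set_option backward.isDefEq.respectTransparency false
set_option backward.isDefEq.respectTransparency.types false
set_option linter.style.haveILetI false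
universe u

noncomputable section

namespace Groth.Agent.QDMSlice

open CategoryTheory CategoryTheory.Limits AlgebraicGeometry Opposite Groth.Agent.FibCatRep
  Groth.Agent.FibCat2Misc Groth.Agent.AlgSpLib Groth.Agent.StkBasic Groth.Agent.AlgStLib
open _root_.AlgSp _root_.AlgSt

variable {S : Scheme.{u}} {𝒳 : AlgSt.Cat S}

local notation "FIN" => RepWith (S := S) @IsFinite

theorem isLocalOnBase_finite : IsLocalOnBase (IsFppfCover (S := S)) FIN :=
  isLocalOnBase_fppf (isLocalOnBase_repWith @IsFinite (fun _ _ r hr => by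
    have : IsFinite r := hr
    exact QA.IndQA.of_locallyQuasiFinite r))

/-- the diagonal of a stack with a finite flat surjective chart from an affine scheme is finite -/
theorem repWith_finite_diag (h𝒳 : IsAlgStack Scheme.fppfPrecoverage 𝒳) {U : Over S} [IsAffine U.left]
    (x : FibCat.overCat U ⥤ᵇ 𝒳) (hfin : RepByAlgSpWith FIN x) (hfl : RepByAlgSpWith (LocP @Flat) x)
    (hfp : RepByAlgSpWith (LocP @LocallyOfFinitePresentation) x)
    (hsu : RepByAlgSpWith AlgSp.IsSurjectiveMor x) :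
    RepByAlgSpWith FIN (FibCat.diag (FibCat.toSelf 𝒳)) := by
  haveI := respectsIso_onSp (bcStable_repWith (S := S) @IsFinite)
  let t' := FibCat.toSelf 𝒳
  let x₀ := BasedFunctor.comp (AlgSt.toOverCat U) x
  obtain ⟨F, e, he, hs, hA, hF⟩ := (AlgStLib.repWith_iff _ x₀).1
    (repWith_onSp_iff.2 ((repWith_overCat_iff _ U x).1 hfin)) U x₀
  let π : (⟨F, hs⟩ : Sp S) ⟶ (yon S).obj U := ObjectProperty.homMk (prjMap e)
  obtain ⟨R, fst, snd, sq, hR⟩ := AlgSpLib.exists_repWith (hF hA (IsAlgSpace.yon_obj U) : FIN π) (𝟙 _)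
  haveI : IsFinite snd.left := hR
  haveI := sq.isIso_fst_of_isIso
  haveI : IsIso fst.hom := inferInstanceAs (IsIso ((sheafToPresheaf (J S) (Type (u + 1))).map fst))
  let e' := BasedFunctor.comp (Stk.ofPshMap fst.hom) e
  have hprj : fst.hom ≫ prjMap e = (pyon S).map snd := by
    have h := sq.w
    rw [Category.comp_id] at h
    exact congrArg (fun k => k.hom) h
  haveI : (BasedFunctor.id 𝒳).toFunctor.Full := inferInstanceAs (𝟭 𝒳.obj).Full
  haveI : (BasedFunctor.id 𝒳).toFunctor.Faithful := inferInstanceAs (𝟭 𝒳.obj).Faithful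
  let M := fpMap (F := x) (G := x) x₀ x₀ (AlgSt.toOverCat U) (AlgSt.toOverCat U) (BasedFunctor.id 𝒳)
    (Iso.refl _) (Iso.refl _)
  let E := BasedFunctor.comp (BasedFunctor.comp (AlgSt.ofOverCat R) e') M
  have hE : FibCat.IsEquivOver E := isEquivOver_comp (isEquivOver_comp (isEquivOver_ofOverCat R)
    (isEquivOver_comp (AlgStLib.isEquivOver_ofPshMap fst.hom) he))
    (isEquivOver_fpMap (F := x) (G := x) x₀ x₀ (AlgSt.toOverCat U) (AlgSt.toOverCat U) (BasedFunctor.id 𝒳)
      (Iso.refl _) (Iso.refl _) (isEquivOver_toOverCat U) (isEquivOver_toOverCat U))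
  let j₁ : BasedFunctor.comp e' (FibCat.fpFst x₀ x₀) ≅ Stk.ofPshMap ((pyon S).map snd) :=
    (Stk.restr (Stk.ofPshMap fst.hom) _).mapIso (mapOfIso (BasedFunctor.comp e (FibCat.fpFst x₀ x₀))).symm ≪≫
      isoOfSec _ _ fun a => by
        show secOf (BasedFunctor.comp (Stk.ofPshMap fst.hom) (Stk.ofPshMap (prjMap e))) a = _
        rw [secOf_comp_ofPshMap, secOf_ofPshMap]
        refine Eq.trans ?_ (secOf_ofPshMap ((pyon S).map snd) a).symm
        exact congrArg (fun k => k.app (Opposite.op a.base) a.sec) hprj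
  let i₁ : BasedFunctor.comp E (FibCat.fpFst x x) ≅ AlgSt.overMap snd :=
    ((post _ (AlgSt.toOverCat U)).mapIso ((Stk.restr (AlgSt.ofOverCat R) _).mapIso j₁) :) ≪≫ ofOverCatMapIso snd
  obtain ⟨s, ⟨i₂⟩⟩ := exists_overMap_iso (BasedFunctor.comp E (FibCat.fpSnd x x))
  let pr : R ⟶ prodU U := Over.homMk (pullback.lift snd.left s.left ((Over.w snd).trans (Over.w s).symm))
    (by show _ ≫ pullback.fst _ _ ≫ U.hom = R.hom; rw [pullback.lift_fst_assoc]; exact Over.w snd)
  have e₁ : pr ≫ pr₁ U = snd := Over.OverMorphism.ext (pullback.lift_fst _ _ _)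
  have e₂ : pr ≫ pr₂ U = s := Over.OverMorphism.ext (pullback.lift_snd _ _ _)
  haveI : IsFinite pr.left := by
    haveI : IsSeparated U.hom := IsSeparated.of_comp U.hom (terminal.from S)
    haveI : IsFinite (pr.left ≫ pullback.fst U.hom U.hom) := by
      show IsFinite (pullback.lift _ _ _ ≫ _)
      rw [pullback.lift_fst]; infer_instance
    exact MorphismProperty.of_postcomp @IsFinite (W' := @IsSeparated) pr.left (pullback.fst U.hom U.hom)
      inferInstance inferInstance
  let ε : BasedFunctor.comp (FibCat.fpFst x x) (BasedFunctor.comp x t') ≅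
      BasedFunctor.comp (FibCat.fpSnd x x) (BasedFunctor.comp x t') := (post _ t').mapIso (FibCat.fpIso x x)
  let C := FibCat.fpLift (FibCat.fpFst x x) (FibCat.fpSnd x x) ε
  let j₀ : BasedFunctor.comp E C ≅ BasedFunctor.comp (AlgSt.overMap pr) (pairFun x) :=
    GerbeMor.fpExtSelf (i₁ ≪≫ eqToIso (congrArg AlgSt.overMap e₁.symm) ≪≫ (overMapComp pr (pr₁ U)).symm)
      (i₂ ≪≫ eqToIso (congrArg AlgSt.overMap e₂.symm) ≪≫ (overMapComp pr (pr₂ U)).symm)
  have hC : RepByAlgSpWith FIN C := by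
    let k : BasedFunctor.comp (AlgSt.toOverCat R) (AlgSt.overMap pr) ≅
        BasedFunctor.comp (Stk.ofPshMap ((pyon S).map pr)) (AlgSt.toOverCat (prodU U)) :=
      ((Stk.restr (AlgSt.toOverCat R) _).mapIso (ofOverCatMapIso pr).symm :) ≪≫
        (post _ (BasedFunctor.comp (Stk.ofPshMap ((pyon S).map pr)) (AlgSt.toOverCat (prodU U)))).mapIso
          (isoOfSec (BasedFunctor.comp (AlgSt.toOverCat R) (AlgSt.ofOverCat R)) (BasedFunctor.id _) fun a => rfl)
    refine (repWith_iff_of_equiv _ C (Stk.ofPshMap ((pyon S).map pr)) (BasedFunctor.comp (AlgSt.toOverCat R) E)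
      (BasedFunctor.comp (AlgSt.toOverCat (prodU U)) (pairFun x)) (isEquivOver_comp (isEquivOver_toOverCat R) hE)
      (isEquivOver_comp (isEquivOver_toOverCat _) (isEquivOver_pairFun x))
      (((post _ (pairFun x)).mapIso k.symm :) ≪≫ ((Stk.restr (AlgSt.toOverCat R) _).mapIso j₀.symm :))).2 ?_
    exact repWith_ofSpMap (bcStable_repWith @IsFinite) (ObjectProperty.homMk ((yon S).map pr) : spOf R ⟶ spOf (prodU U))
      ((repWith_yon_iff pr).2 inferInstance)
  have hfst : RepByAlgSpWith FIN (FibCat.fpFst (cmpMap x x t') (FibCat.diag t')) :=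
    (repWith_iff_of_equiv FIN (FibCat.fpFst (cmpMap x x t') (FibCat.diag t')) C
      (cmpDiag ε (fun _ => rfl)) (BasedFunctor.id _) (isEquivOver_cmpDiag ε (fun _ => rfl)) isEquivOver_id
      (Iso.refl _)).2 hC
  let l := AlgSt.toOverCat U
  have hw : Lifts (BasedFunctor.comp l x) := lifts_of_fppf ((repWith_overCat_iff _ U x).1 hfl)
    ((repWith_overCat_iff _ U x).1 hfp) ((repWith_overCat_iff _ U x).1 hsu)
  have hx : Lifts x := fun V y => by
    obtain ⟨V', h, a, b, c, z, ⟨i⟩⟩ := hw V y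
    exact ⟨V', h, a, b, c, BasedFunctor.comp z l, ⟨i⟩⟩
  exact repWith_of_lifts (bcStable_repWith @IsFinite) isLocalOnBase_finite h𝒳.diag (lifts_cmpMap hx) hfst

/-- well-nigh affine stacks are quasi-compact, quasi-DM and separated -/
theorem props_of_wellNighAffine (h𝒳 : IsAlgStack Scheme.fppfPrecoverage 𝒳) (hw : AlgSt.IsWellNighAffine 𝒳) :
    AlgSt.IsQuasiCompact 𝒳 ∧ AlgSt.IsQuasiDMOver 𝒳 ∧ AlgSt.IsSeparatedOver 𝒳 := by
  obtain ⟨U, x, hU, hx⟩ := hw
  haveI := hU
  have hfin : RepByAlgSpWith FIN x := repWith_mono hx fun _ _ a _ ha => (isFiniteMor_iff_repWith a).1 ha.1.2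
  have hd := repWith_finite_diag h𝒳 x hfin (repWith_mono hx fun _ _ _ _ ha => ha.1.1.2)
    (repWith_mono hx fun _ _ _ _ ha => ha.2) (repWith_mono hx fun _ _ _ _ ha => ha.1.1.1)
  refine ⟨?_, repWith_mono hd fun _ T a hF ha => ?_, repWith_mono hd fun _ T a hF ha => ?_⟩
  · exact isQuasiCompact_of_chart h𝒳 x
      (exists_point_of_surjective h𝒳.isStack.1 x (repWith_mono hx fun _ _ _ _ ha => ha.1.1.1))
  · refine (locP_iff_repWith etST_lqf (IsAlgSpace.yon_obj T) ha.1).2
      (AlgSpLib.repWith_mono (fun _ _ r hr => ?_) ha)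
    haveI : IsFinite r := hr
    exact ⟨inferInstance, inferInstance⟩
  · refine (isProperMor_iff_repWith hF (IsAlgSpace.yon_obj T) ha.1).2
      (AlgSpLib.repWith_mono (fun _ _ r hr => ?_) ha)
    haveI : IsFinite r := hr
    exact (inferInstance : IsProper r)

end Groth.Agent.QDMSlice
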