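import Groth.Agent.FibCatRep.Basic
import Groth.Prelude.Def_AlgSt2
import Groth.Prelude.Def_Grpd

/-!
# The groupoid of a chart of a category fibred in groupoids

If `fp w w` has a terminal object for a chart `w : U → 𝒳`, its base is the scheme of arrows of a
groupoid over `U`.
-/

set_option autoImplicit false
set_option backward.isDefEq.respectTransparency false
set_option backward.isDefEq.respectTransparency.types false
universe u

noncomputable section

namespace Groth.Agent.QDMSlice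

open CategoryTheory CategoryTheory.Limits AlgebraicGeometry Groth.Agent.FibCatRep

variable {S : Scheme.{u}} {𝒳 : AlgSt.Cat S} {U : Over S} (w : FibCat.overCat U ⥤ᵇ 𝒳)

/-- the object of a point of the chart -/
abbrev ob {T : Over S} (a : T ⟶ U) : 𝒳.obj := w.obj (Over.mk a)

theorem p_ob {T : Over S} (a : T ⟶ U) : 𝒳.p.obj (ob w a) = T := w.w_obj (Over.mk a)

/-- the morphism between points of the chart over a morphism of test schemes -/
abbrev wm {T' T : Over S} (f : T' ⟶ T) {a' : T' ⟶ U} {a : T ⟶ U} (h : f ≫ a = a') :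
    ob w a' ⟶ ob w a :=
  w.map (Over.homMk f h : (Over.mk a' : Over U) ⟶ Over.mk a)

theorem map_wm {T' T : Over S} (f : T' ⟶ T) {a' : T' ⟶ U} {a : T ⟶ U} (h : f ≫ a = a') :
    𝒳.p.map (wm w f h) = eqToHom (p_ob w a') ≫ f ≫ eqToHom (p_ob w a).symm :=
  map_map w (Over.homMk f h : (Over.mk a' : Over U) ⟶ Over.mk a)

theorem wm_comp {T'' T' T : Over S} (g : T'' ⟶ T') (f : T' ⟶ T) {a'' : T'' ⟶ U} {a' : T' ⟶ U}
    {a : T ⟶ U} (hg : g ≫ a' = a'') (hf : f ≫ a = a') :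
    wm w g hg ≫ wm w f hf = wm w (g ≫ f) (a := a) (by rw [Category.assoc, hf, hg]) := by
  show w.map _ ≫ w.map _ = w.map _
  rw [← w.toFunctor.map_comp]
  congr 1

theorem wm_id {T : Over S} (a : T ⟶ U) : wm w (𝟙 T) (Category.id_comp a) = 𝟙 (ob w a) := by
  show w.map _ = _
  exact (congrArg w.map (Over.OverMorphism.ext rfl)).trans (w.toFunctor.map_id _)

/-- an isomorphism of points over the identity -/
@[ext] structure Vert {T : Over S} (a b : T ⟶ U) where
  hom : ob w a ⟶ ob w b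
  map : 𝒳.p.map hom = eqToHom ((p_ob w a).trans (p_ob w b).symm)

variable {w}

/-- the identity -/
def Vert.refl {T : Over S} (a : T ⟶ U) : Vert w a a := ⟨𝟙 _, by simp⟩

/-- composition -/
def Vert.comp {T : Over S} {a b d : T ⟶ U} (θ : Vert w a b) (η : Vert w b d) : Vert w a d :=
  ⟨θ.hom ≫ η.hom, by rw [Functor.map_comp, θ.map, η.map]; simp⟩

section withhX

variable (hX : FibCat.IsFibGrpd 𝒳.p)
include hX

theorem Vert.isIso {T : Over S} {a b : T ⟶ U} (θ : Vert w a b) : IsIso θ.hom :=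
  haveI : IsIso (𝒳.p.map θ.hom) := by rw [θ.map]; infer_instance
  isIso_of_map hX _

/-- the inverse -/
def Vert.inv {T : Over S} {a b : T ⟶ U} (θ : Vert w a b) : Vert w b a :=
  haveI := θ.isIso hX
  ⟨CategoryTheory.inv θ.hom, by
    rw [Functor.map_inv]
    exact IsIso.inv_eq_of_hom_inv_id (by rw [θ.map]; simp)⟩

theorem Vert.comp_inv {T : Over S} {a b : T ⟶ U} (θ : Vert w a b) : θ.comp (θ.inv hX) = Vert.refl a :=
  haveI := θ.isIso hX
  Vert.ext (IsIso.hom_inv_id θ.hom)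

theorem Vert.inv_comp {T : Over S} {a b : T ⟶ U} (θ : Vert w a b) : (θ.inv hX).comp θ = Vert.refl b :=
  haveI := θ.isIso hX
  Vert.ext (IsIso.inv_hom_id θ.hom)

/-- restriction along a morphism of test schemes -/
theorem exists_res {T' T : Over S} {a b : T ⟶ U} (θ : Vert w a b) (f : T' ⟶ T) (a' b' : T' ⟶ U)
    (ha : f ≫ a = a') (hb : f ≫ b = b') :
    ∃! θ' : Vert w a' b', θ'.hom ≫ wm w f hb = wm w f ha ≫ θ.hom := by
  obtain ⟨χ, ⟨h₁, h₂⟩, hu⟩ := existsUnique_cart hX (wm w f hb) (wm w f ha ≫ θ.hom)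
    (eqToHom ((p_ob w a').trans (p_ob w b').symm))
    (by rw [Functor.map_comp, map_wm, map_wm, θ.map]; simp)
  exact ⟨⟨χ, h₁⟩, h₂, fun θ' h => Vert.ext (hu _ ⟨θ'.map, h⟩)⟩

omit hX in
theorem res_comp {T' T : Over S} {a b d : T ⟶ U} {θ : Vert w a b} {η : Vert w b d} {f : T' ⟶ T}
    {a' b' d' : T' ⟶ U} {θ' : Vert w a' b'} {η' : Vert w b' d'}
    (ha : f ≫ a = a') (hb : f ≫ b = b') (hd : f ≫ d = d')
    (h₁ : θ'.hom ≫ wm w f hb = wm w f ha ≫ θ.hom) (h₂ : η'.hom ≫ wm w f hd = wm w f hb ≫ η.hom) :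
    (θ'.comp η').hom ≫ wm w f hd = wm w f ha ≫ (θ.comp η).hom := by
  show (θ'.hom ≫ η'.hom) ≫ _ = _ ≫ θ.hom ≫ η.hom
  rw [Category.assoc, h₂, ← Category.assoc, h₁, Category.assoc]

end withhX

variable (w)

/-- a scheme of arrows of a chart: the universal isomorphism between two points -/
structure Univ where
  /-- arrows -/
  R : Over S
  t : R ⟶ U
  s : R ⟶ U
  /-- the universal isomorphism -/
  θ : Vert w t s
  univ : ∀ {T : Over S} (a b : T ⟶ U) (η : Vert w a b), ∃! r : T ⟶ R,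
    ∃ (h₁ : r ≫ t = a) (h₂ : r ≫ s = b), η.hom ≫ wm w r h₂ = wm w r h₁ ≫ θ.hom

variable {w} (D : Univ w)

/-- a point of the scheme of arrows classifies an isomorphism -/
def Univ.Classifies {T : Over S} (r : T ⟶ D.R) {a b : T ⟶ U} (η : Vert w a b) : Prop :=
  ∃ (h₁ : r ≫ D.t = a) (h₂ : r ≫ D.s = b), η.hom ≫ wm w r h₂ = wm w r h₁ ≫ D.θ.hom

variable (hX : FibCat.IsFibGrpd 𝒳.p)

theorem Univ.eq_of {T : Over S} {r r' : T ⟶ D.R} {a b : T ⟶ U} {η : Vert w a b}
    (h : D.Classifies r η) (h' : D.Classifies r' η) : r = r' :=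
  (D.univ a b η).unique h h'

include hX in
theorem Univ.exists_vert {T : Over S} (r : T ⟶ D.R) :
    ∃ η : Vert w (r ≫ D.t) (r ≫ D.s), D.Classifies r η := by
  obtain ⟨η, hη, -⟩ := exists_res hX D.θ r _ _ rfl rfl
  exact ⟨η, rfl, rfl, hη⟩

include hX in
theorem Univ.classifies_comp {T' T : Over S} {r : T ⟶ D.R} {a b : T ⟶ U} {η : Vert w a b}
    (h : D.Classifies r η) (f : T' ⟶ T) {a' b' : T' ⟶ U} {η' : Vert w a' b'}
    (ha : f ≫ a = a') (hb : f ≫ b = b') (hsq : η'.hom ≫ wm w f hb = wm w f ha ≫ η.hom) :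
    D.Classifies (f ≫ r) η' := by
  obtain ⟨h₁, h₂, h₃⟩ := h
  refine ⟨by rw [Category.assoc, h₁, ha], by rw [Category.assoc, h₂, hb], ?_⟩
  rw [← wm_comp w f r hb h₂, ← wm_comp w f r ha h₁, Category.assoc, ← h₃, ← Category.assoc, hsq,
    Category.assoc]

include hX in
theorem Univ.exists_cmp {T : Over S} (r r' : T ⟶ D.R) (h : r ≫ D.s = r' ≫ D.t) :
    ∃ m : T ⟶ D.R, ∀ {a b d : T ⟶ U} (η : Vert w a b) (η' : Vert w b d),
      D.Classifies r η → D.Classifies r' η' → D.Classifies m (η.comp η') := by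
  obtain ⟨η₀, h₀⟩ := D.exists_vert hX r
  obtain ⟨η₁, h₁⟩ := D.exists_vert hX r'
  let η₁' : Vert w (r ≫ D.s) (r' ≫ D.s) := h.symm ▸ η₁
  have h₁' : D.Classifies r' η₁' := by
    have key : ∀ {x : T ⟶ U} (e : r' ≫ D.t = x), D.Classifies r' (e ▸ η₁ : Vert w x (r' ≫ D.s)) := by
      rintro x rfl; exact h₁
    exact key h.symm
  obtain ⟨m, hm, -⟩ := D.univ _ _ (η₀.comp η₁')
  refine ⟨m, fun {a b d} η η' hη hη' => ?_⟩
  obtain ⟨rfl, rfl, e⟩ := hη
  obtain ⟨hb', rfl, e'⟩ := hη'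
  have i₀ : η = η₀ := (exists_res hX D.θ r _ _ rfl rfl).unique e h₀.2.2
  have i₁ : η' = η₁' := (exists_res hX D.θ r' _ _ h.symm rfl).unique e' h₁'.2.2
  subst i₀ i₁
  exact hm

/-- composition of arrows -/
def Univ.cmp {T : Over S} (r r' : T ⟶ D.R) (h : r ≫ D.s = r' ≫ D.t) : T ⟶ D.R :=
  (D.exists_cmp hX r r' h).choose

theorem Univ.classifies_cmp {T : Over S} {r r' : T ⟶ D.R} (h : r ≫ D.s = r' ≫ D.t) {a b d : T ⟶ U}
    {η : Vert w a b} {η' : Vert w b d} (hη : D.Classifies r η) (hη' : D.Classifies r' η') :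
    D.Classifies (D.cmp hX r r' h) (η.comp η') :=
  (D.exists_cmp hX r r' h).choose_spec η η' hη hη'

include hX in
theorem Univ.exists_pair {T : Over S} (r r' : T ⟶ D.R) (h : r ≫ D.s = r' ≫ D.t) :
    ∃ (η : Vert w (r ≫ D.t) (r ≫ D.s)) (η' : Vert w (r ≫ D.s) (r' ≫ D.s)),
      D.Classifies r η ∧ D.Classifies r' η' := by
  obtain ⟨η, hη⟩ := D.exists_vert hX r
  obtain ⟨η', hη', -⟩ := exists_res hX D.θ r' (r ≫ D.s) (r' ≫ D.s) h.symm rfl
  exact ⟨η, η', hη, h.symm, rfl, hη'⟩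

theorem Univ.cmp_t {T : Over S} (r r' : T ⟶ D.R) (h : r ≫ D.s = r' ≫ D.t) :
    D.cmp hX r r' h ≫ D.t = r ≫ D.t := by
  obtain ⟨η, η', hη, hη'⟩ := D.exists_pair hX r r' h
  exact (D.classifies_cmp hX h hη hη').1

theorem Univ.cmp_s {T : Over S} (r r' : T ⟶ D.R) (h : r ≫ D.s = r' ≫ D.t) :
    D.cmp hX r r' h ≫ D.s = r' ≫ D.s := by
  obtain ⟨η, η', hη, hη'⟩ := D.exists_pair hX r r' h
  exact (D.classifies_cmp hX h hη hη').2.1

theorem Univ.comp_cmp {T' T : Over S} (f : T' ⟶ T) (r r' : T ⟶ D.R) (h : r ≫ D.s = r' ≫ D.t) :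
    f ≫ D.cmp hX r r' h = D.cmp hX (f ≫ r) (f ≫ r') (by rw [Category.assoc, Category.assoc, h]) := by
  obtain ⟨η, η', hη, hη'⟩ := D.exists_pair hX r r' h
  obtain ⟨ζ, hζ, -⟩ := exists_res hX η f _ _ rfl rfl
  obtain ⟨ζ', hζ', -⟩ := exists_res hX η' f _ _ rfl rfl
  exact D.eq_of (D.classifies_comp hX (D.classifies_cmp hX h hη hη') f rfl rfl
      (res_comp rfl rfl rfl hζ hζ'))
    (D.classifies_cmp hX _ (D.classifies_comp hX hη f rfl rfl hζ) (D.classifies_comp hX hη' f rfl rfl hζ'))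

theorem Univ.cmp_assoc {T : Over S} (r₁ r₂ r₃ : T ⟶ D.R) (h₁ : r₁ ≫ D.s = r₂ ≫ D.t)
    (h₂ : r₂ ≫ D.s = r₃ ≫ D.t) :
    D.cmp hX (D.cmp hX r₁ r₂ h₁) r₃ ((D.cmp_s hX r₁ r₂ h₁).trans h₂) =
      D.cmp hX r₁ (D.cmp hX r₂ r₃ h₂) (h₁.trans (D.cmp_t hX r₂ r₃ h₂).symm) := by
  obtain ⟨η₁, η₂, e₁, e₂⟩ := D.exists_pair hX r₁ r₂ h₁
  obtain ⟨η₃, e₃, -⟩ := exists_res hX D.θ r₃ (r₂ ≫ D.s) (r₃ ≫ D.s) h₂.symm rfl
  have c₃ : D.Classifies r₃ η₃ := ⟨h₂.symm, rfl, e₃⟩
  have l := D.classifies_cmp hX ((D.cmp_s hX r₁ r₂ h₁).trans h₂) (D.classifies_cmp hX h₁ e₁ e₂) c₃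
  have r := D.classifies_cmp hX (h₁.trans (D.cmp_t hX r₂ r₃ h₂).symm) e₁ (D.classifies_cmp hX h₂ e₂ c₃)
  rw [show (η₁.comp η₂).comp η₃ = η₁.comp (η₂.comp η₃) from Vert.ext (Category.assoc _ _ _)] at l
  exact D.eq_of l r

/-- the identity arrows -/
def Univ.unit : U ⟶ D.R := (D.univ (𝟙 U) (𝟙 U) (Vert.refl _)).exists.choose

theorem Univ.classifies_unit : D.Classifies D.unit (Vert.refl (w := w) (𝟙 U)) :=
  (D.univ (𝟙 U) (𝟙 U) (Vert.refl _)).exists.choose_spec

include hX in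
theorem Univ.classifies_comp_unit {T : Over S} (a : T ⟶ U) : D.Classifies (a ≫ D.unit) (Vert.refl (w := w) a) :=
  D.classifies_comp hX D.classifies_unit a (Category.comp_id a) (Category.comp_id a)
    ((Category.id_comp _).trans (Category.comp_id _).symm)

/-- the inverse arrows -/
def Univ.inverse : D.R ⟶ D.R := (D.univ D.s D.t (D.θ.inv hX)).exists.choose

theorem Univ.classifies_inverse : D.Classifies (D.inverse hX) (D.θ.inv hX) :=
  (D.univ D.s D.t (D.θ.inv hX)).exists.choose_spec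

theorem Univ.classifies_comp_inverse {T : Over S} (r : T ⟶ D.R) {a b : T ⟶ U} {η : Vert w a b}
    (hη : D.Classifies r η) : D.Classifies (r ≫ D.inverse hX) (η.inv hX) := by
  obtain ⟨ha, hb, e⟩ := hη
  refine D.classifies_comp hX (D.classifies_inverse hX) r hb ha ?_
  haveI := η.isIso hX
  haveI := D.θ.isIso hX
  show inv η.hom ≫ _ = _ ≫ inv D.θ.hom
  rw [IsIso.eq_comp_inv, Category.assoc, IsIso.inv_comp_eq]
  exact e.symm

/-- the scheme of composable pairs -/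
abbrev Univ.R₂ : Over S := Over.mk (pullback.fst D.s.left D.t.left ≫ D.R.hom)

/-- composition on composable pairs -/
def Univ.comp₂ : D.R₂ ⟶ D.R :=
  D.cmp hX (T := D.R₂) (Over.homMk (pullback.fst D.s.left D.t.left) rfl)
    (Over.homMk (pullback.snd D.s.left D.t.left) (by
      show _ ≫ D.R.hom = pullback.fst D.s.left D.t.left ≫ D.R.hom
      rw [← Over.w D.t, ← Category.assoc, ← pullback.condition, Category.assoc, Over.w D.s, Over.w D.t]))
    (Over.OverMorphism.ext pullback.condition)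

theorem Univ.lift_comp₂ {T : Over S} (r r' : T ⟶ D.R) (h : r ≫ D.s = r' ≫ D.t) :
    pullback.lift r.left r'.left (congrArg CommaMorphism.left h) ≫ (D.comp₂ hX).left =
      (D.cmp hX r r' h).left := by
  let f : T ⟶ D.R₂ := Over.homMk (pullback.lift r.left r'.left (congrArg CommaMorphism.left h)) (by
    show _ ≫ pullback.fst _ _ ≫ D.R.hom = T.hom
    rw [pullback.lift_fst_assoc, Over.w r])
  refine (congrArg CommaMorphism.left (D.comp_cmp hX f _ _ _) : (f ≫ D.comp₂ hX).left = _).trans ?_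
  congr 2
  · exact Over.OverMorphism.ext (pullback.lift_fst _ _ _)
  · exact Over.OverMorphism.ext (pullback.lift_snd _ _ _)

theorem Univ.cmp_congr {T : Over S} {r r' q q' : T ⟶ D.R} (e : r = q) (e' : r' = q')
    (h : r ≫ D.s = r' ≫ D.t) : D.cmp hX r r' h = D.cmp hX q q' (by rw [← e, ← e', h]) := by
  subst e e'; rfl

theorem over_hom {T : Scheme.{u}} (α β : T ⟶ D.R.left) (h : α ≫ D.s.left = β ≫ D.t.left) :
    β ≫ D.R.hom = α ≫ D.R.hom := by
  rw [← Over.w D.t, ← Category.assoc, ← h, Category.assoc, Over.w D.s, Over.w D.t]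

theorem Univ.cmp_unit {T : Over S} (r : T ⟶ D.R) :
    D.cmp hX r (r ≫ D.s ≫ D.unit) (by rw [Category.assoc, Category.assoc, D.classifies_unit.1, Category.comp_id]) = r := by
  obtain ⟨η, hη⟩ := D.exists_vert hX r
  have h' := D.classifies_comp_unit hX (r ≫ D.s)
  rw [Category.assoc] at h'
  have := D.classifies_cmp hX (r := r) (r' := r ≫ D.s ≫ D.unit)
    (by rw [Category.assoc, Category.assoc, D.classifies_unit.1, Category.comp_id]) hη h'
  rw [show η.comp (Vert.refl _) = η from Vert.ext (Category.comp_id _)] at this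
  exact D.eq_of this hη

theorem Univ.unit_cmp {T : Over S} (r : T ⟶ D.R) :
    D.cmp hX (r ≫ D.t ≫ D.unit) r (by rw [Category.assoc, Category.assoc, D.classifies_unit.2.1, Category.comp_id]) = r := by
  obtain ⟨η, hη⟩ := D.exists_vert hX r
  have h' := D.classifies_comp_unit hX (r ≫ D.t)
  rw [Category.assoc] at h'
  have := D.classifies_cmp hX (r := r ≫ D.t ≫ D.unit) (r' := r)
    (by rw [Category.assoc, Category.assoc, D.classifies_unit.2.1, Category.comp_id]) h' hη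
  rw [show (Vert.refl _).comp η = η from Vert.ext (Category.id_comp _)] at this
  exact D.eq_of this hη

theorem Univ.cmp_inverse {T : Over S} (r : T ⟶ D.R) :
    D.cmp hX r (r ≫ D.inverse hX) (by rw [Category.assoc, (D.classifies_inverse hX).1]) = r ≫ D.t ≫ D.unit := by
  obtain ⟨η, hη⟩ := D.exists_vert hX r
  have h' := D.classifies_comp_unit hX (r ≫ D.t)
  rw [Category.assoc] at h'
  have := D.classifies_cmp hX (r := r) (r' := r ≫ D.inverse hX)
    (by rw [Category.assoc, (D.classifies_inverse hX).1]) hη (D.classifies_comp_inverse hX r hη)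
  rw [η.comp_inv hX] at this
  exact D.eq_of this h'

theorem Univ.inverse_cmp {T : Over S} (r : T ⟶ D.R) :
    D.cmp hX (r ≫ D.inverse hX) r (by rw [Category.assoc, (D.classifies_inverse hX).2.1]) = r ≫ D.s ≫ D.unit := by
  obtain ⟨η, hη⟩ := D.exists_vert hX r
  have h' := D.classifies_comp_unit hX (r ≫ D.s)
  rw [Category.assoc] at h'
  have := D.classifies_cmp hX (r := r ≫ D.inverse hX) (r' := r)
    (by rw [Category.assoc, (D.classifies_inverse hX).2.1]) (D.classifies_comp_inverse hX r hη) hη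
  rw [η.inv_comp hX] at this
  exact D.eq_of this h'

theorem pullback_lift_lift {T : Scheme.{u}} (c : pullback D.s.left D.t.left ⟶ D.R.left) (α β γ : T ⟶ D.R.left)
    (h₁ : α ≫ D.s.left = β ≫ D.t.left) (h₂ : β ≫ D.s.left = γ ≫ D.t.left) (x y : T ⟶ D.R.left)
    (hx : pullback.lift α β h₁ ≫ c = x) (hy : pullback.lift β γ h₂ ≫ c = y)
    {k₁ : (pullback.lift α β h₁ ≫ c) ≫ D.s.left = γ ≫ D.t.left}
    {k₂ : α ≫ D.s.left = (pullback.lift β γ h₂ ≫ c) ≫ D.t.left}
    (e₁ : x ≫ D.s.left = γ ≫ D.t.left) (e₂ : α ≫ D.s.left = y ≫ D.t.left)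
    (e : pullback.lift x γ e₁ ≫ c = pullback.lift α y e₂ ≫ c) :
    pullback.lift (pullback.lift α β h₁ ≫ c) γ k₁ ≫ c = pullback.lift α (pullback.lift β γ h₂ ≫ c) k₂ ≫ c := by
  subst hx hy; exact e

theorem assoc_of {T₀ : Over S} (α β γ : T₀.left ⟶ D.R.left)
    (h₁ : α ≫ D.s.left = β ≫ D.t.left) (h₂ : β ≫ D.s.left = γ ≫ D.t.left)
    (a b d : T₀ ⟶ D.R) (k₁ : a ≫ D.s = b ≫ D.t) (k₂ : b ≫ D.s = d ≫ D.t)
    (ha : a.left = α) (hb : b.left = β) (hd : d.left = γ)
    {l₁ : (pullback.lift α β h₁ ≫ (D.comp₂ hX).left) ≫ D.s.left = γ ≫ D.t.left}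
    {l₂ : α ≫ D.s.left = (pullback.lift β γ h₂ ≫ (D.comp₂ hX).left) ≫ D.t.left} :
    pullback.lift (pullback.lift α β h₁ ≫ (D.comp₂ hX).left) γ l₁ ≫ (D.comp₂ hX).left =
      pullback.lift α (pullback.lift β γ h₂ ≫ (D.comp₂ hX).left) l₂ ≫ (D.comp₂ hX).left := by
  subst ha hb hd
  exact pullback_lift_lift D _ _ _ _ h₁ h₂ _ _ (D.lift_comp₂ hX a b k₁) (D.lift_comp₂ hX b d k₂)
    _ _ ((D.lift_comp₂ hX (D.cmp hX a b k₁) d ((D.cmp_s hX a b k₁).trans k₂)).trans
    ((congrArg CommaMorphism.left (D.cmp_assoc hX a b d k₁ k₂)).trans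
      (D.lift_comp₂ hX a (D.cmp hX b d k₂) (k₁.trans (D.cmp_t hX b d k₂).symm)).symm))

/-- the groupoid scheme of the chart -/
def Univ.grpd : Grpd.GroupoidScheme S where
  U := U.left
  R := D.R.left
  pU := U.hom
  pR := D.R.hom
  s := D.s.left
  t := D.t.left
  e := D.unit.left
  i := (D.inverse hX).left
  c := (D.comp₂ hX).left
  s_over := Over.w D.s
  t_over := Over.w D.t
  comp_s {T} α β h := by
    let a : Over.mk (α ≫ D.R.hom) ⟶ D.R := Over.homMk α rfl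
    let b : Over.mk (α ≫ D.R.hom) ⟶ D.R := Over.homMk β (over_hom D α β h)
    have k : a ≫ D.s = b ≫ D.t := Over.OverMorphism.ext h
    exact (congrArg (· ≫ D.s.left) (D.lift_comp₂ hX a b k)).trans (congrArg CommaMorphism.left (D.cmp_s hX a b k))
  comp_t {T} α β h := by
    let a : Over.mk (α ≫ D.R.hom) ⟶ D.R := Over.homMk α rfl
    let b : Over.mk (α ≫ D.R.hom) ⟶ D.R := Over.homMk β (over_hom D α β h)
    have k : a ≫ D.s = b ≫ D.t := Over.OverMorphism.ext h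
    exact (congrArg (· ≫ D.t.left) (D.lift_comp₂ hX a b k)).trans (congrArg CommaMorphism.left (D.cmp_t hX a b k))
  assoc {T} α β γ h₁ h₂ := by
    let a : Over.mk (α ≫ D.R.hom) ⟶ D.R := Over.homMk α rfl
    let b : Over.mk (α ≫ D.R.hom) ⟶ D.R := Over.homMk β (over_hom D α β h₁)
    let d : Over.mk (α ≫ D.R.hom) ⟶ D.R := Over.homMk γ ((over_hom D β γ h₂).trans (over_hom D α β h₁))
    have k₁ : a ≫ D.s = b ≫ D.t := Over.OverMorphism.ext h₁
    have k₂ : b ≫ D.s = d ≫ D.t := Over.OverMorphism.ext h₂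
    exact assoc_of (T₀ := Over.mk (α ≫ D.R.hom)) D hX α β γ h₁ h₂ a b d k₁ k₂ rfl rfl rfl
  e_s := congrArg CommaMorphism.left D.classifies_unit.2.1
  e_t := congrArg CommaMorphism.left D.classifies_unit.1
  comp_e {T} α := by
    let a : Over.mk (α ≫ D.R.hom) ⟶ D.R := Over.homMk α rfl
    exact (D.lift_comp₂ hX a (a ≫ D.s ≫ D.unit) (by rw [Category.assoc, Category.assoc, D.classifies_unit.1, Category.comp_id])).trans
      (congrArg CommaMorphism.left (D.cmp_unit hX a))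
  e_comp {T} α := by
    let a : Over.mk (α ≫ D.R.hom) ⟶ D.R := Over.homMk α rfl
    exact (D.lift_comp₂ hX (a ≫ D.t ≫ D.unit) a (by rw [Category.assoc, Category.assoc, D.classifies_unit.2.1, Category.comp_id])).trans
      (congrArg CommaMorphism.left (D.unit_cmp hX a))
  i_s := congrArg CommaMorphism.left (D.classifies_inverse hX).2.1
  i_t := congrArg CommaMorphism.left (D.classifies_inverse hX).1
  comp_i {T} α := by
    let a : Over.mk (α ≫ D.R.hom) ⟶ D.R := Over.homMk α rfl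
    exact (D.lift_comp₂ hX a (a ≫ D.inverse hX) (by rw [Category.assoc, (D.classifies_inverse hX).1])).trans
      (congrArg CommaMorphism.left (D.cmp_inverse hX a))
  i_comp {T} α := by
    let a : Over.mk (α ≫ D.R.hom) ⟶ D.R := Over.homMk α rfl
    exact (D.lift_comp₂ hX (a ≫ D.inverse hX) a (by rw [Category.assoc, (D.classifies_inverse hX).2.1])).trans
      (congrArg CommaMorphism.left (D.inverse_cmp hX a))

end Groth.Agent.QDMSlice
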