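import Groth.Agent.SliceEqv.Slices

/-!
# Quasi-finite slices covering all orbits of a flat groupoid with quasi-finite stabilizers
-/

set_option autoImplicit false
set_option linter.style.haveILetI false

universe u

open CategoryTheory CategoryTheory.Limits AlgebraicGeometry
open Groth.Agent.GrpdSlice Groth.Agent.SliceEqv

namespace Groth.Agent.QDMSlice

variable {S : Scheme.{u}} (G : Grpd.GroupoidScheme S)
  [Flat G.s] [LocallyOfFinitePresentation G.s] [Flat G.t] [LocallyOfFinitePresentation G.t]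

theorem exists_qf_slices_qdm [LocallyQuasiFinite G.stabilizerToU] :
    ∃ (U' : Scheme.{u}) (g : U' ⟶ G.U), Flat (hMap G g) ∧ LocallyOfFinitePresentation (hMap G g) ∧
      LocallyQuasiFinite (hMap G g) ∧ Surjective (hMap G g) := by
  classical
  haveI : LocallyOfFiniteType G.stabilizerToU := by
    haveI : LocallyOfFiniteType (G.j ≫ pullback.fst G.pU G.pU) := by
      rw [show G.j ≫ pullback.fst G.pU G.pU = G.t from pullback.lift_fst _ _ _]; infer_instance
    haveI : LocallyOfFiniteType G.j := locallyOfFiniteType_of_comp G.j (pullback.fst G.pU G.pU)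
    exact inferInstanceAs (LocallyOfFiniteType (pullback.snd G.j G.diag))
  let I := {u : G.U // Grpd.IsCMAt G.s (G.e u) ∧ LocallyOfFiniteType (G.U.fromSpecResidueField u)}
  choose V _ g u' hg hlfp hgu hcm hqf using fun i : I => exists_slice_qf G i.1 i.2.1 i.2.2
  let g' : (∐ V) ⟶ G.U := Sigma.desc g
  haveI : LocallyOfFinitePresentation g' :=
    IsZariskiLocalAtSource.sigmaDesc (P := @LocallyOfFinitePresentation) hlfp
  have key : ∀ (P : MorphismProperty Scheme.{u}) [IsZariskiLocalAtSource P], (∀ i, P (hMap G (g i))) →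
      P (hMap G g') := by
    intro P _ hP
    refine IsZariskiLocalAtSource.of_openCover (Scheme.Pullback.openCoverOfLeft (sigmaOpenCover V) g' G.t) fun i => ?_
    have e : (Scheme.Pullback.openCoverOfLeft (sigmaOpenCover V) g' G.t).f i ≫ hMap G g' =
        hMap G ((sigmaOpenCover V).f i ≫ g') := by
      rw [hMap, hMap, ← Category.assoc]
      exact congrArg (· ≫ G.s) ((pullback.lift_snd _ _ _).trans (Category.comp_id _))
    have e2 : ∀ g₁ : V i ⟶ G.U, g₁ = g i → P (hMap G g₁) := fun g₁ h1 => h1 ▸ hP i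
    rw [e]
    exact e2 _ (Sigma.ι_desc g i)
  haveI hfl : Flat (hMap G g') := key @Flat fun i => flat_of_isCMAt (hcm i)
  haveI hlf : LocallyOfFinitePresentation (hMap G g') := lfp_hMap G g'
  refine ⟨∐ V, g', hfl, hlf, key @LocallyQuasiFinite hqf, ⟨fun x => ?_⟩⟩
  by_contra hx
  obtain ⟨c, hc, hcA⟩ := FtPtsLib.exists_mem_of_isLocallyClosed ((Set.range (hMap G g'))ᶜ)
    ((hMap G g').isOpenMap.isOpen_range.isClosed_compl.isLocallyClosed) ⟨x, hx⟩
  have hdense := CMChart.dense_isCMAt_fibre G.s c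
  have hne : Nonempty (G.s.fiber c) := by
    obtain ⟨w, -⟩ : G.e c ∈ Set.range (G.s.fiberι c) := by
      rw [G.s.range_fiberι]
      show G.s (G.e c) = c
      rw [← Scheme.Hom.comp_apply, G.e_s]; rfl
    exact ⟨w⟩
  obtain ⟨w, hw⟩ := @Dense.nonempty _ _ _ hne hdense
  let Z : Set G.R := G.s ⁻¹' {c} ∩ {r | Grpd.IsCMAt G.s r}
  have hZ : IsLocallyClosed Z :=
    ((SpQS.isLocallyClosed_of_closedInAffine hcA).preimage G.s.continuous).inter
      (isOpen_setOf_isCMAt G.s).isLocallyClosed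
  have hZne : Z.Nonempty := by
    refine ⟨G.s.fiberι c w, ?_, (isCMAt_iff G.s _).2 hw⟩
    rw [← G.s.range_fiberι]; exact ⟨w, rfl⟩
  obtain ⟨r, ⟨hrc, hr⟩, hrA⟩ := FtPtsLib.exists_mem_of_isLocallyClosed Z hZ hZne
  let i : I := ⟨G.t r, isCMAt_unit G r hr, FtPtsLib.image_mem G.t r (FtPtsLib.lft_of_closedInAffine r hrA)⟩
  obtain ⟨q, -, hq⟩ := Scheme.Pullback.exists_preimage_pullback (f := g') (g := G.t) (Sigma.ι V i (u' i)) r
    (show g' (Sigma.ι V i (u' i)) = G.t r by rw [← Scheme.Hom.comp_apply, Sigma.ι_desc, hgu i])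
  exact hc ⟨q, by rw [hMap, Scheme.Hom.comp_apply, hq]; exact hrc⟩

end Groth.Agent.QDMSlice
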