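import Groth.Agent.QDMSlice.Chart
import Groth.Agent.QDMSlice.Slices
import Groth.Agent.AlgStLib.Misc1

/-!
# Flat quasi-finite covers of stacks with quasi-finite diagonal
-/

set_option autoImplicit false
set_option backward.isDefEq.respectTransparency false
set_option backward.isDefEq.respectTransparency.types false
set_option linter.style.haveILetI false
universe u

noncomputable section

namespace Groth.Agent.QDMSlice

open CategoryTheory CategoryTheory.Limits AlgebraicGeometry Opposite Groth.Agent.FibCatRep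
  Groth.Agent.FibCat2Misc Groth.Agent.AlgSpLib Groth.Agent.StkBasic Groth.Agent.AlgStLib
open _root_.AlgSp _root_.AlgSt

variable {S : Scheme.{u}} {𝒳 : AlgSt.Cat S} {U W : Over S}

/-- models over slices give models over spaces -/
theorem exists_model_of_equiv (y : FibCat.overCat U ⥤ᵇ 𝒳) (x : FibCat.overCat W ⥤ᵇ 𝒳) {R : Over S}
    (E : FibCat.overCat R ⥤ᵇ FibCat.fp y x) (hE : FibCat.IsEquivOver E) (b : R ⟶ U)
    (i : BasedFunctor.comp E (FibCat.fpFst y x) ≅ AlgSt.overMap b) :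
    ∃ e : AlgSt.ofSp (spOf R).obj ⥤ᵇ
        FibCat.fp (BasedFunctor.comp (AlgSt.toOverCat U) y) (BasedFunctor.comp (AlgSt.toOverCat W) x),
      FibCat.IsEquivOver e ∧ Nonempty (BasedFunctor.comp e
        (FibCat.fpFst (BasedFunctor.comp (AlgSt.toOverCat U) y) (BasedFunctor.comp (AlgSt.toOverCat W) x)) ≅
          Stk.ofPshMap ((pyon S).map b)) := by
  haveI : (BasedFunctor.id 𝒳).toFunctor.Full := inferInstanceAs (𝟭 𝒳.obj).Full
  haveI : (BasedFunctor.id 𝒳).toFunctor.Faithful := inferInstanceAs (𝟭 𝒳.obj).Faithful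
  let M := fpMap (F := y) (G := x) (BasedFunctor.comp (AlgSt.toOverCat U) y)
    (BasedFunctor.comp (AlgSt.toOverCat W) x) (AlgSt.toOverCat U) (AlgSt.toOverCat W) (BasedFunctor.id 𝒳)
    (Iso.refl _) (Iso.refl _)
  obtain ⟨k, hk, -, ⟨j⟩⟩ := isEquivOver_symm (isEquivOver_fpMap (F := y) (G := x)
    (BasedFunctor.comp (AlgSt.toOverCat U) y) (BasedFunctor.comp (AlgSt.toOverCat W) x) (AlgSt.toOverCat U)
    (AlgSt.toOverCat W) (BasedFunctor.id 𝒳) (Iso.refl _) (Iso.refl _) (isEquivOver_toOverCat U) (isEquivOver_toOverCat W))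
  let e := BasedFunctor.comp (BasedFunctor.comp (AlgSt.toOverCat R) E) k
  refine ⟨e, isEquivOver_comp (isEquivOver_comp (isEquivOver_toOverCat R) hE) hk, ⟨?_⟩⟩
  let P := BasedFunctor.comp e (FibCat.fpFst (BasedFunctor.comp (AlgSt.toOverCat U) y)
    (BasedFunctor.comp (AlgSt.toOverCat W) x))
  let i₁ : BasedFunctor.comp P (AlgSt.toOverCat U) ≅
      BasedFunctor.comp (AlgSt.toOverCat R) (AlgSt.overMap b) :=
    ((post _ (FibCat.fpFst y x)).mapIso ((Stk.restr (BasedFunctor.comp (AlgSt.toOverCat R) E) _).mapIso j) :) ≪≫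
      (Stk.restr (AlgSt.toOverCat R) _).mapIso i
  let i₂ : BasedFunctor.comp (BasedFunctor.comp (AlgSt.toOverCat R) (AlgSt.overMap b)) (AlgSt.ofOverCat U) ≅
      Stk.ofPshMap ((pyon S).map b) :=
    isoOfSec _ _ fun o => Eq.trans (ULift.ext _ _ rfl) (secOf_ofPshMap ((pyon S).map b) o).symm
  let i₃ : BasedFunctor.comp (BasedFunctor.comp P (AlgSt.toOverCat U)) (AlgSt.ofOverCat U) ≅ P :=
    isoOfSec _ _ fun o => ULift.ext _ _ rfl
  exact i₃.symm ≪≫ (post _ (AlgSt.ofOverCat U)).mapIso i₁ ≪≫ i₂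

variable (w : FibCat.overCat U ⥤ᵇ 𝒳) (D : Univ w) {V : Over S} (g : V ⟶ U)

/-- the base change of a map to the chart over the chart -/
abbrev sliceBC : Over S := Over.mk (pullback.fst g.left D.t.left ≫ V.hom)

/-- the projection to the source -/
abbrev sliceQ₁ : sliceBC w D g ⟶ V := Over.homMk (pullback.fst g.left D.t.left) rfl

/-- the projection to the arrows -/
abbrev sliceQ₂ : sliceBC w D g ⟶ D.R := Over.homMk (pullback.snd g.left D.t.left) (by
  show _ ≫ D.R.hom = pullback.fst g.left D.t.left ≫ V.hom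
  rw [← Over.w D.t, ← Category.assoc, ← pullback.condition, Category.assoc, Over.w g])

theorem sliceQ_condition : sliceQ₂ w D g ≫ D.t = sliceQ₁ w D g ≫ g :=
  Over.OverMorphism.ext pullback.condition.symm

/-- the base change of a slice along the chart is computed by the groupoid -/
theorem exists_equiv_slice (hX : FibCat.IsFibGrpd 𝒳.p) :
    ∃ (R : Over S) (κ : R ⟶ sliceBC w D g) (_ : IsIso κ)
      (E : FibCat.overCat R ⥤ᵇ FibCat.fp w (BasedFunctor.comp (AlgSt.overMap g) w)),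
      FibCat.IsEquivOver E ∧ Nonempty (BasedFunctor.comp E (FibCat.fpFst w (BasedFunctor.comp (AlgSt.overMap g) w)) ≅
        AlgSt.overMap (κ ≫ sliceQ₂ w D g ≫ D.s)) := by
  let x := BasedFunctor.comp (AlgSt.overMap g) w
  let P := sliceBC w D g
  obtain ⟨ζ, hζ, -⟩ := exists_res hX D.θ (sliceQ₂ w D g) (sliceQ₁ w D g ≫ g) (sliceQ₂ w D g ≫ D.s)
    (sliceQ_condition w D g) rfl
  have cζ : D.Classifies (sliceQ₂ w D g) ζ := ⟨sliceQ_condition w D g, rfl, hζ⟩
  let θP := ζ.inv hX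
  haveI := θP.isIso hX
  let oP : (FibCat.fp w x).obj := ⟨⟨Over.mk (sliceQ₂ w D g ≫ D.s), Over.mk (sliceQ₁ w D g), asIso θP.hom⟩,
    fpProp_of_map _ _ _ _ θP.map⟩
  have hterm : ∀ o : (FibCat.fp w x).obj, Nonempty (o ⟶ oP) ∧ ∀ m m' : o ⟶ oP, m = m' := by
    intro o
    have he : o.obj.snd.left = o.obj.fst.left := fp_obj_eq o
    let T : Over S := o.obj.fst.left
    let c : T ⟶ U := o.obj.fst.hom
    let d : T ⟶ V := eqToHom he.symm ≫ o.obj.snd.hom
    let j : o.obj.snd ≅ Over.mk d := Over.isoMk (eqToIso he) (by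
      show eqToHom he ≫ eqToHom he.symm ≫ o.obj.snd.hom = o.obj.snd.hom
      rw [eqToHom_trans_assoc, eqToHom_refl, Category.id_comp])
    obtain ⟨q, hq⟩ := map_iso_hom o
    let φ : Vert w c (d ≫ g) := ⟨o.obj.iso.hom ≫ x.map j.hom, by
      rw [Functor.map_comp, hq, map_map]
      show _ ≫ _ ≫ eqToHom he ≫ _ = _
      simp⟩
    haveI := φ.isIso hX
    let o' : (FibCat.fp w x).obj := ⟨⟨Over.mk c, Over.mk d, asIso φ.hom⟩, fpProp_of_map _ _ _ _ φ.map⟩
    let i : o ≅ o' := ObjectProperty.isoMk _ (CategoricalPullback.mkIso (Iso.refl o.obj.fst) j (by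
      show w.map (𝟙 o.obj.fst) ≫ o.obj.iso.hom ≫ x.map j.hom = o.obj.iso.hom ≫ x.map j.hom
      rw [w.toFunctor.map_id, Category.id_comp]))
    suffices h : Nonempty (o' ⟶ oP) ∧ ∀ m m' : o' ⟶ oP, m = m' from
      ⟨⟨i.hom ≫ h.1.some⟩, fun m m' => (cancel_epi i.inv).1 (h.2 _ _)⟩
    constructor
    · obtain ⟨r, hr, -⟩ := D.univ (d ≫ g) c (φ.inv hX)
      obtain ⟨h₁, h₂, h₃⟩ := hr
      let f : T ⟶ P := Over.homMk (pullback.lift d.left r.left (congrArg CommaMorphism.left h₁).symm)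
        (by show _ ≫ pullback.fst _ _ ≫ V.hom = T.hom; rw [pullback.lift_fst_assoc]; exact Over.w d)
      have e₁ : f ≫ sliceQ₁ w D g = d := Over.OverMorphism.ext (pullback.lift_fst _ _ _)
      have e₂ : f ≫ sliceQ₂ w D g = r := Over.OverMorphism.ext (pullback.lift_snd _ _ _)
      have ha : f ≫ sliceQ₁ w D g ≫ g = d ≫ g := by rw [← Category.assoc, e₁]
      have hb : f ≫ sliceQ₂ w D g ≫ D.s = c := by rw [← Category.assoc, e₂, h₂]
      obtain ⟨η, hη, -⟩ := exists_res hX ζ f (d ≫ g) c ha hb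
      have cη := D.classifies_comp hX cζ f ha hb hη
      rw [e₂] at cη
      have : η = φ.inv hX := (exists_res hX D.θ r (d ≫ g) c h₁ h₂).unique cη.2.2 h₃
      subst this
      haveI := ζ.isIso hX
      refine ⟨ObjectProperty.homMk ⟨Over.homMk f hb, Over.homMk f e₁, ?_⟩⟩
      show wm w f hb ≫ inv ζ.hom = φ.hom ≫ w.map ((AlgSt.overMap g).map (Over.homMk f e₁ : (Over.mk d : Over V) ⟶ Over.mk (sliceQ₁ w D g)))
      rw [IsIso.comp_inv_eq, Category.assoc]
      refine ((IsIso.inv_comp_eq φ.hom).1 hη).trans (congrArg (φ.hom ≫ ·) ?_)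
      congr 1
    · intro m m'
      have key : ∀ m : o' ⟶ oP, ∃ (η : Vert w (d ≫ g) c), η = φ.inv hX ∧
          (m.hom.snd.left = m.hom.fst.left) ∧ D.Classifies (m.hom.fst.left ≫ sliceQ₂ w D g) η ∧
          m.hom.fst.left ≫ sliceQ₁ w D g = d := fun m => by
        have hsnd : m.hom.snd.left = m.hom.fst.left := by
          refine (map_snd m).trans ?_
          show eqToHom _ ≫ m.hom.fst.left ≫ eqToHom _ = m.hom.fst.left
          simp
        let f : T ⟶ P := m.hom.fst.left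
        have e₁ : f ≫ sliceQ₁ w D g = d :=
          (congrArg (· ≫ sliceQ₁ w D g) hsnd.symm).trans (Over.w m.hom.snd)
        have ha : f ≫ sliceQ₁ w D g ≫ g = d ≫ g := by rw [← Category.assoc, e₁]
        have hb : f ≫ sliceQ₂ w D g ≫ D.s = c := Over.w m.hom.fst
        refine ⟨φ.inv hX, rfl, hsnd, D.classifies_comp hX cζ f ha hb ?_, e₁⟩
        haveI := ζ.isIso hX
        show inv φ.hom ≫ wm w f hb = wm w f ha ≫ ζ.hom
        rw [IsIso.inv_comp_eq, ← Category.assoc, ← IsIso.comp_inv_eq]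
        refine (m.hom.w : _).trans (congrArg (φ.hom ≫ w.map ·) ?_)
        exact Over.OverMorphism.ext hsnd
      obtain ⟨η, rfl, hs, hc, h₁⟩ := key m
      obtain ⟨η', rfl, hs', hc', h₁'⟩ := key m'
      have e : m.hom.fst.left = m'.hom.fst.left := Over.OverMorphism.ext (pullback.hom_ext
        (congrArg CommaMorphism.left (h₁.trans h₁'.symm)) (congrArg CommaMorphism.left (D.eq_of hc hc')))
      exact ObjectProperty.hom_ext _ (CategoricalPullback.hom_ext (Over.OverMorphism.ext e)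
        (Over.OverMorphism.ext (hs.trans (e.trans hs'.symm))))
  have hfp : FibCat.IsFibGrpd (FibCat.fp w x).p :=
    FibCatRep.isFibGrpd_fp (isFibGrpd_overCat U) (isFibGrpd_overCat V) hX w x
  obtain ⟨R, F, hF⟩ := isRepresentable_of_terminal hfp oP hterm
  obtain ⟨E, hE, -, -⟩ := isEquivOver_symm hF
  obtain ⟨b, ⟨ib⟩⟩ := exists_overMap_iso (BasedFunctor.comp E (FibCat.fpFst w x))
  let top : (FibCat.overCat R).obj := Over.mk (𝟙 R)
  obtain ⟨hEe, -⟩ := isEquivOver_data hE
  haveI := hEe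
  have ht : IsTerminal (E.obj top) := IsTerminal.isTerminalObj E.toFunctor top Over.mkIdTerminal
  have htP : IsTerminal oP := IsTerminal.ofUniqueHom (fun o => (hterm o).1.some) fun o m => (hterm o).2 _ _
  let m := ht.uniqueUpToIso htP
  let a := ((BasedNatTrans.forgetful _ _).mapIso ib).app top
  have hl : (E.obj top).obj.fst.left = R := E.w_obj top
  let κ : R ⟶ P := eqToHom hl.symm ≫ m.hom.hom.fst.left
  haveI : IsIso ((FibCat.fp w x).p.map m.hom) := inferInstance
  haveI : IsIso m.hom.hom.fst.left := ‹IsIso ((FibCat.fp w x).p.map m.hom)›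
  have hb : b = κ ≫ sliceQ₂ w D g ≫ D.s := by
    have h₁ : m.hom.hom.fst.left ≫ sliceQ₂ w D g ≫ D.s = (E.obj top).obj.fst.hom := Over.w m.hom.hom.fst
    have h₂ : eqToHom hl ≫ 𝟙 R ≫ b = (E.obj top).obj.fst.hom := by
      have h := Over.w a.hom
      rw [show a.hom.left = eqToHom hl from map_app ib.hom top] at h
      exact h
    rw [Category.assoc, h₁, ← h₂, eqToHom_trans_assoc, eqToHom_refl, Category.id_comp, Category.id_comp]
  exact ⟨R, κ, inferInstance, E, hE, ⟨ib ≪≫ eqToIso (congrArg AlgSt.overMap hb)⟩⟩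

/-- flat quasi-finite covers by schemes -/
theorem exists_qf_cover (h𝒳 : IsAlgStack Scheme.fppfPrecoverage 𝒳)
    (hΔ : RepByAlgSpWith (AlgSp.IsSeparatedMor (S := S)) (FibCat.diag (FibCat.toSelf 𝒳)))
    (hqf : AlgSt.IsQuasiDMOver 𝒳) :
    ∃ (W : Over S) (w : FibCat.overCat W ⥤ᵇ 𝒳), RepByAlgSpWith
      (AlgSp.LocP (@Flat ⊓ @LocallyOfFinitePresentation ⊓ @LocallyQuasiFinite) ⊓ AlgSp.IsSurjectiveMor) w := by
  have hX := h𝒳.isStack.1
  obtain ⟨U, w, hw, hws⟩ := h𝒳.atlas
  obtain ⟨R, pr, E, hE, hqfpr, ⟨i₁⟩, ⟨i₂⟩⟩ := exists_equiv_chart w hX hΔ hqf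
  obtain ⟨D, hR, ht, hs⟩ := exists_univ_of_equiv w hX E hE _ _ i₁ i₂
  subst hR
  rw [eqToHom_refl, Category.id_comp] at ht hs
  let y₀ := BasedFunctor.comp (AlgSt.toOverCat U) w
  have hy : RepByAlgSpWith (LocP @Smooth) y₀ := (repWith_overCat_iff _ U w).1 hw
  -- the groupoid
  haveI hst : Smooth D.t.left := by
    obtain ⟨e, he, ⟨ie⟩⟩ := exists_model_of_equiv w w E hE (pr ≫ pr₁ U) i₁
    haveI := respectsIso_onSp (cls_smooth (S := S)).bc
    obtain ⟨_, hA, hq⟩ := good_of_model (repWith_onSp_iff.2 hy) he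
    have hprj : prjMap e = (pyon S).map D.t := by
      rw [ht]; exact (mapOf_congr ie).trans (mapOf_ofPshMap _)
    refine (locP_yon_iff etST_smooth D.t).1 ?_
    convert hq hA (IsAlgSpace.yon_obj U) using 1
    exact ObjectProperty.hom_ext _ hprj.symm
  haveI : IsIso (D.inverse hX) := by
    refine ⟨D.inverse hX, ?_, ?_⟩ <;>
    · have h := D.classifies_comp_inverse hX (D.inverse hX) (D.classifies_inverse hX)
      rw [show (D.θ.inv hX).inv hX = D.θ from Vert.ext (by haveI := D.θ.isIso hX; exact IsIso.inv_inv)] at h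
      exact D.eq_of h ⟨Category.id_comp _, Category.id_comp _, by
        show D.θ.hom ≫ wm w (𝟙 D.R) _ = wm w (𝟙 D.R) _ ≫ D.θ.hom
        rw [wm_id, wm_id, Category.comp_id, Category.id_comp]⟩
  haveI : IsIso (D.inverse hX).left := inferInstanceAs (IsIso ((Over.forget S).map (D.inverse hX)))
  haveI hss : Smooth D.s.left := by
    rw [← (D.classifies_inverse hX).1, Over.comp_left]
    exact MorphismProperty.comp_mem _ _ _ inferInstance hst
  let G := D.grpd hX
  haveI : Flat G.s := inferInstanceAs (Flat D.s.left)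
  haveI : Flat G.t := inferInstanceAs (Flat D.t.left)
  haveI : LocallyOfFinitePresentation G.s := inferInstanceAs (LocallyOfFinitePresentation D.s.left)
  haveI : LocallyOfFinitePresentation G.t := inferInstanceAs (LocallyOfFinitePresentation D.t.left)
  haveI : LocallyQuasiFinite G.stabilizerToU := by
    have hj : G.j = pr.left := pullback.hom_ext
      ((pullback.lift_fst _ _ _).trans (congrArg CommaMorphism.left ht))
      ((pullback.lift_snd _ _ _).trans (congrArg CommaMorphism.left hs))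
    have h : LocallyQuasiFinite G.j := by rw [hj]; exact hqfpr
    exact MorphismProperty.pullback_snd (P := @LocallyQuasiFinite) _ _ h
  obtain ⟨U', g₀, hfl, hfp, hlqf, hsur⟩ := exists_qf_slices_qdm G
  let V : Over S := Over.mk (g₀ ≫ U.hom)
  let g : V ⟶ U := Over.homMk g₀ rfl
  let x := BasedFunctor.comp (AlgSt.overMap g) w
  obtain ⟨R', κ, hκ, E', hE', ⟨i'⟩⟩ := exists_equiv_slice w D g hX
  let b := κ ≫ sliceQ₂ w D g ≫ D.s
  haveI : IsIso κ.left := inferInstanceAs (IsIso ((Over.forget S).map κ))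
  have hb : Flat b.left ∧ LocallyOfFinitePresentation b.left ∧ LocallyQuasiFinite b.left ∧ Surjective b.left := by
    haveI : Flat (pullback.snd g.left D.t.left ≫ D.s.left) := hfl
    haveI : LocallyOfFinitePresentation (pullback.snd g.left D.t.left ≫ D.s.left) := hfp
    haveI : LocallyQuasiFinite (pullback.snd g.left D.t.left ≫ D.s.left) := hlqf
    haveI : Surjective (pullback.snd g.left D.t.left ≫ D.s.left) := hsur
    have e : b.left = κ.left ≫ pullback.snd g.left D.t.left ≫ D.s.left := rfl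
    rw [e]
    exact ⟨inferInstance, inferInstance, inferInstance, inferInstance⟩
  obtain ⟨hb₁, hb₂, hb₃, hb₄⟩ := hb
  haveI := hb₁
  haveI := hb₂
  haveI := hb₃
  haveI := hb₄
  obtain ⟨e, he, hie⟩ := exists_model_of_equiv w x E' hE' b i'
  let f := BasedFunctor.comp (AlgSt.toOverCat V) x
  have hys : RepByAlgSpWith AlgSp.IsSurjectiveMor y₀ := (repWith_overCat_iff _ U w).1 hws
  let a : spOf R' ⟶ spOf U := ObjectProperty.homMk ((yon S).map b)
  have rep : ∀ {Q : MorphismProperty (Sp S)}, Cls Q → Q ((yon S).map b) → RepByAlgSpWith Q f := fun {Q} hQ h =>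
    (repWith_iff_exists_model hQ.bc hQ.loc (isAlgStack_ofSp (spOf V)) h𝒳 f (spOf U) y₀
      (repWith_flat_of_smooth hy) (repWith_lfp_of_smooth hy) hys).2 ⟨spOf R', a, e, he, hie, h⟩
  have h₁ := rep cls_flat ((locP_yon_iff etST_flat b).2 hb₁)
  have h₂ := rep cls_lfp ((locP_yon_iff etST_lfp b).2 hb₂)
  have h₃ := rep cls_lqf ((locP_yon_iff etST_lqf b).2 ⟨hb₃, inferInstance⟩)
  have h₄ := rep cls_surjective (isSurjectiveMor_of_repWith ((repWith_yon_iff b).2 hb₄))
  haveI := respectsIso_onSp (cls_flat (S := S)).bc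
  haveI := respectsIso_onSp (cls_lfp (S := S)).bc
  haveI := respectsIso_onSp (cls_lqf (S := S)).bc
  haveI := respectsIso_onSp (cls_surjective (S := S)).bc
  haveI := respectsIso_and (onSp (LocP (S := S) @Flat)) (onSp (LocP (S := S) @LocallyOfFinitePresentation))
  haveI := respectsIso_and (onSp (LocP (S := S) @Flat) ⊓ onSp (LocP (S := S) @LocallyOfFinitePresentation))
    (onSp (LocP (S := S) (@LocallyQuasiFinite ⊓ @LocallyOfFiniteType)))
  have h := repWith_and (repWith_and (repWith_and (repWith_onSp_iff.2 h₁) (repWith_onSp_iff.2 h₂))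
    (repWith_onSp_iff.2 h₃)) (repWith_onSp_iff.2 h₄)
  refine ⟨V, x, (repWith_overCat_iff _ V x).2 (repWith_mono h fun F T c hF hc => ?_)⟩
  obtain ⟨⟨⟨c₁, c₂⟩, c₃⟩, c₄⟩ := hc
  have hT := IsAlgSpace.yon_obj (S := S) T
  exact ⟨fun A B p q k hp hq e => ⟨⟨c₁ hF hT p q k hp hq e, c₂ hF hT p q k hp hq e⟩,
    (c₃ hF hT p q k hp hq e).1⟩, c₄ hF hT⟩

end Groth.Agent.QDMSlice
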