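import Groth.Agent.QDMSlice.Finite
import Groth.Agent.AlgSpLib.EpiFppf
import Groth.Agent.SliceEqv.Grpd
import Groth.Agent.Grpd.SheafQuot
import Mathlib.CategoryTheory.Sites.RegularEpi

/-!
# Well-nigh affine algebraic spaces are affine
-/

set_option autoImplicit false
set_option backward.isDefEq.respectTransparency false
set_option backward.isDefEq.respectTransparency.types false
set_option linter.style.haveILetI false
universe u

noncomputable section

namespace Groth.Agent.QDMSlice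

open CategoryTheory CategoryTheory.Limits AlgebraicGeometry Opposite Groth.Agent.FibCatRep
  Groth.Agent.FibCat2Misc Groth.Agent.AlgSpLib Groth.Agent.StkBasic Groth.Agent.AlgStLib
open _root_.AlgSp _root_.AlgSt

variable {S : Scheme.{u}} {𝒳 : AlgSt.Cat S}

local notation "FIN" => RepWith (S := S) @IsFinite

theorem respectsIso_surj : (AlgSp.IsSurjectiveMor (S := S)).RespectsIso :=
  respectsIso_of_bc fun _ _ _ _ _ _ _ _ sq h => isSurjectiveMor_baseChange sq h

/-- two effective epimorphisms with the same kernel pair have isomorphic targets -/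
theorem nonempty_iso_of_kernelPair {C : Type*} [Category C] {R U A B : C} {s t : R ⟶ U} {p : U ⟶ A} {q : U ⟶ B}
    [EffectiveEpi p] [EffectiveEpi q] (hp : IsKernelPair p s t) (hq : IsKernelPair q s t) :
    Nonempty (A ≅ B) := by
  have h₁ : ∀ {Z : C} (g₁ g₂ : Z ⟶ U), g₁ ≫ p = g₂ ≫ p → g₁ ≫ q = g₂ ≫ q := fun g₁ g₂ h => by
    rw [← hp.lift_fst g₁ g₂ h, Category.assoc, hq.w, ← Category.assoc, hp.lift_snd]
  have h₂ : ∀ {Z : C} (g₁ g₂ : Z ⟶ U), g₁ ≫ q = g₂ ≫ q → g₁ ≫ p = g₂ ≫ p := fun g₁ g₂ h => by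
    rw [← hq.lift_fst g₁ g₂ h, Category.assoc, hp.w, ← Category.assoc, hq.lift_snd]
  refine ⟨⟨EffectiveEpi.desc p q h₁, EffectiveEpi.desc q p h₂, ?_, ?_⟩⟩
  · rw [← cancel_epi p, EffectiveEpi.fac_assoc, EffectiveEpi.fac, Category.comp_id]
  · rw [← cancel_epi q, EffectiveEpi.fac_assoc, EffectiveEpi.fac, Category.comp_id]

/-- an algebraic space with a finite flat finitely presented cover by an affine scheme is affine -/
theorem exists_iso_affine {F : AlgSp.Space S} {U : Over S} [IsAffine U.left] (f : (yon S).obj U ⟶ F.obj)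
    (hfin : RepBySpWith FIN f.hom) (hfl : RepBySpWith (LocP @Flat) f.hom)
    (hfp : RepBySpWith (LocP @LocallyOfFinitePresentation) f.hom) (hsu : RepBySpWith AlgSp.IsSurjectiveMor f.hom) :
    ∃ M : Over S, IsAffine M.left ∧ Nonempty ((yon S).obj M ≅ F.obj) := by
  have sq₀ := IsPullback.of_hasPullback f f
  have sqP : IsPullback (pullback.fst f f).hom (pullback.snd f f).hom f.hom f.hom :=
    sq₀.map (sheafToPresheaf (J S) (Type (u + 1)))
  obtain ⟨hs, hA, h₁⟩ := hfin f.hom _ _ sqP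
  obtain ⟨_, _, h₂⟩ := hfl f.hom _ _ sqP
  obtain ⟨_, _, h₃⟩ := hfp f.hom _ _ sqP
  have hA' : IsAlgSpace (pullback f f) := hA
  have h₁' : FIN (pullback.snd f f) := h₁
  obtain ⟨R, fst, s, sqR, hR⟩ := AlgSpLib.exists_repWith h₁' (𝟙 _)
  haveI : IsFinite s.left := hR
  haveI := sqR.isIso_fst_of_isIso
  haveI : IsAffine R.left := isAffine_of_isAffineHom s.left
  obtain ⟨t, ht⟩ := exists_map_eq (fst ≫ pullback.fst f f)
  have hs' : (yon S).map s = fst ≫ pullback.snd f f := by rw [sqR.w, Category.comp_id]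
  have hkp : IsKernelPair f ((yon S).map t) ((yon S).map s) :=
    IsPullback.of_iso sq₀ (asIso fst).symm (Iso.refl _) (Iso.refl _) (Iso.refl _) (by simp [ht]) (by simp [hs'])
      (by simp) (by simp)
  have hiso : ∀ {P : MorphismProperty Scheme.{u}}, EtST P → P.RespectsIso →
      LocP P (pullback.snd f f) → P s.left := by
    intro P hP hPi h
    haveI := hPi
    haveI := DenseLiftQC.respectsIso_locP (S := S) P
    refine (locP_yon_iff hP s).1 ?_
    rw [hs']
    exact (MorphismProperty.cancel_left_of_respectsIso _ fst _).2 h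
  haveI : Flat s.left := hiso etST_flat inferInstance h₂
  haveI : LocallyOfFinitePresentation s.left := hiso etST_lfp inferInstance h₃
  have heq : AlgSp.IsEqvRel s t := by
    refine ⟨fun T r r' e₁ e₂ => (yon S).map_injective (hkp.hom_ext ?_ ?_), fun T => ⟨fun a => ?_, ?_, ?_⟩⟩
    · rw [← Functor.map_comp, ← Functor.map_comp, e₁]
    · rw [← Functor.map_comp, ← Functor.map_comp, e₂]
    all_goals
      have lift : ∀ a b : T ⟶ U, (yon S).map a ≫ f = (yon S).map b ≫ f → ∃ r : T ⟶ R, r ≫ t = a ∧ r ≫ s = b :=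
        fun a b h => by
          obtain ⟨r, hr⟩ := exists_map_eq (hkp.lift _ _ h)
          refine ⟨r, (yon S).map_injective ?_, (yon S).map_injective ?_⟩
          · rw [Functor.map_comp, hr, hkp.lift_fst]
          · rw [Functor.map_comp, hr, hkp.lift_snd]
      have push : ∀ a b : T ⟶ U, (∃ r : T ⟶ R, r ≫ t = a ∧ r ≫ s = b) → (yon S).map a ≫ f = (yon S).map b ≫ f :=
        fun a b ⟨r, h₁, h₂⟩ => by rw [← h₁, ← h₂, Functor.map_comp, Functor.map_comp, Category.assoc, Category.assoc, hkp.w]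
    · exact lift a a rfl
    · exact fun {a b} h => lift b a (push a b h).symm
    · exact fun {a b c} h h' => lift a c ((push a b h).trans (push b c h'))
  let G := SliceEqv.eqvGrpd heq
  haveI : IsAffine G.U := inferInstanceAs (IsAffine U.left)
  haveI : IsAffine G.R := inferInstanceAs (IsAffine R.left)
  haveI : IsFinite G.s := inferInstanceAs (IsFinite s.left)
  haveI : Flat G.s := inferInstanceAs (Flat s.left)
  haveI : LocallyOfFinitePresentation G.s := inferInstanceAs (LocallyOfFinitePresentation s.left)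
  haveI : Mono G.j := ⟨fun {Z} r r' h => SliceEqv.arrow_ext heq r r'
    (show r ≫ G.t = r' ≫ G.t by
      rw [show G.t = G.j ≫ pullback.fst G.pU G.pU from (pullback.lift_fst _ _ _).symm, ← Category.assoc, h,
        Category.assoc])
    (show r ≫ G.s = r' ≫ G.s by
      rw [show G.s = G.j ≫ pullback.snd G.pU G.pU from (pullback.lift_snd _ _ _).symm, ← Category.assoc, h,
        Category.assoc])⟩
  obtain ⟨⟨_, hq₂, hq₃⟩, hpb⟩ := GrpdLib.quotient_spec G
  haveI : Surjective G.toQuot := ⟨(GrpdLib.toQuot_surjective_orbits G).1⟩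
  obtain ⟨m, hm, -⟩ := GrpdLib.existsUnique_desc G G.toQuot hpb G.pU (by rw [G.t_over, G.s_over])
  let M : Over S := Over.mk m
  let q : U ⟶ M := Over.homMk G.toQuot hm
  haveI : Flat q.left := hq₂
  haveI : LocallyOfFinitePresentation q.left := hq₃
  haveI : Surjective q.left := ‹Surjective G.toQuot›
  have hkq : IsKernelPair ((yon S).map q) ((yon S).map t) ((yon S).map s) :=
    IsPullback.map (yon S) (QuotShLib.isKernelPair_of_left (q := q) hpb)
  haveI := respectsIso_surj (S := S)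
  haveI := DenseLiftQC.respectsIso_locP (S := S) @Flat
  haveI := DenseLiftQC.respectsIso_locP (S := S) @LocallyOfFinitePresentation
  haveI := respectsIso_and (AlgSp.IsSurjectiveMor (S := S)) (LocP (S := S) @Flat)
  haveI := respectsIso_and (AlgSp.IsSurjectiveMor ⊓ LocP (S := S) @Flat) (LocP (S := S) @LocallyOfFinitePresentation)
  have hq : RepBySpWith (AlgSp.IsSurjectiveMor ⊓ LocP @Flat ⊓ LocP @LocallyOfFinitePresentation) ((yon S).map q).hom := by
    refine repBySpWith_of_bc (IsAlgSpace.yon_obj U) (IsAlgSpace.yon_obj M) _ fun T ξ W fst' snd' _ sq => ?_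
    have hh : RepWith (S := S) (@Surjective ⊓ @Flat ⊓ @LocallyOfFinitePresentation) ((yon S).map q) :=
      (repWith_yon_iff q).2 ⟨⟨inferInstance, inferInstance⟩, inferInstance⟩
    have h := AlgSpLib.repWith_baseChange sq hh
    have hT := IsAlgSpace.yon_obj (S := S) T
    exact ⟨⟨isSurjectiveMor_of_repWith (AlgSpLib.repWith_mono (fun _ _ r hr => hr.1.1) h),
      (locP_iff_repWith etST_flat hT h.1).2 (AlgSpLib.repWith_mono (fun _ _ r hr => hr.1.2) h)⟩,
      (locP_iff_repWith etST_lfp hT h.1).2 (AlgSpLib.repWith_mono (fun _ _ r hr => hr.2) h)⟩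
  haveI := epi_of_repBySpWith_fppf _ hq
  haveI : Epi f := epi_of_repBySpWith_fppf f fun T ξ F' fst' snd' sq => by
    obtain ⟨hs, hA, a₁⟩ := hsu ξ fst' snd' sq
    exact ⟨hs, hA, ⟨a₁, (hfl ξ fst' snd' sq).2.2⟩, (hfp ξ fst' snd' sq).2.2⟩
  haveI : IsRegularEpiCategory (Sp S) := inferInstanceAs (IsRegularEpiCategory (Sheaf (J S) (Type (u + 1))))
  haveI : EffectiveEpi ((yon S).map q) :=
    (isRegularEpi_iff_effectiveEpi ((yon S).map q)).1 (IsRegularEpiCategory.regularEpiOfEpi _)
  haveI : EffectiveEpi f := (isRegularEpi_iff_effectiveEpi f).1 (IsRegularEpiCategory.regularEpiOfEpi f)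
  obtain ⟨i⟩ := nonempty_iso_of_kernelPair hkq hkp
  exact ⟨M, inferInstanceAs (IsAffine (Spec _)), ⟨i⟩⟩

/-- well-nigh affine algebraic spaces are affine -/
theorem exists_affine_of_wellNighAffine (hw : AlgSt.IsWellNighAffine 𝒳) (hsp : AlgSt.RepByAlgSp 𝒳) :
    ∃ (U : Over S) (e : AlgSt.ofSch U ⥤ᵇ 𝒳), IsAffine U.left ∧ FibCat.IsEquivOver e := by
  obtain ⟨U, x, hU, hx⟩ := hw
  haveI := hU
  obtain ⟨F, e, he⟩ := hsp
  obtain ⟨k, hk, -, ⟨j⟩⟩ := isEquivOver_symm he
  let x₀ := BasedFunctor.comp (AlgSt.toOverCat U) x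
  let f : (yon S).obj U ⟶ F.obj := ObjectProperty.homMk (mapOf (BasedFunctor.comp x₀ k))
  let i : BasedFunctor.comp (Stk.ofPshMap f.hom) e ≅ BasedFunctor.comp (BasedFunctor.id _) x₀ :=
    ((post _ e).mapIso (mapOfIso (BasedFunctor.comp x₀ k)) :) ≪≫
      ((Stk.restr x₀ _).mapIso j :)
  have key : ∀ {Q : MorphismProperty (Sp S)} [Q.RespectsIso], RepByAlgSpWith Q x → RepBySpWith Q f.hom :=
    fun {Q} _ h => (repWith_ofPshMap_iff Q f.hom).1 ((repWith_iff_of_equiv Q x₀ (Stk.ofPshMap f.hom)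
      (BasedFunctor.id _) e isEquivOver_id he i).1 ((repWith_overCat_iff Q U x).1 h))
  haveI := respectsIso_surj (S := S)
  haveI := DenseLiftQC.respectsIso_locP (S := S) @Flat
  haveI := DenseLiftQC.respectsIso_locP (S := S) @LocallyOfFinitePresentation
  obtain ⟨M, hM, ⟨φ⟩⟩ := exists_iso_affine f
    (key (repWith_mono hx fun _ _ a _ ha => (isFiniteMor_iff_repWith a).1 ha.1.2))
    (key (repWith_mono hx fun _ _ _ _ ha => ha.1.1.2)) (key (repWith_mono hx fun _ _ _ _ ha => ha.2))
    (key (repWith_mono hx fun _ _ _ _ ha => ha.1.1.1))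
  haveI : IsIso φ.hom.hom := inferInstanceAs (IsIso ((sheafToPresheaf (J S) (Type (u + 1))).map φ.hom))
  exact ⟨M, BasedFunctor.comp (Stk.ofPshMap φ.hom.hom) e, hM,
    isEquivOver_comp (AlgStLib.isEquivOver_ofPshMap φ.hom.hom) he⟩

end Groth.Agent.QDMSlice
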